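import Groth.Agent.KFlatLib.Ring.LocalFibre

/-!
# The four-term criterion using only the fibre through the point
-/

set_option autoImplicit false
set_option linter.style.haveILetI false
set_option linter.unusedSectionVars false

universe u

open TensorProduct IsLocalRing Groth.Agent.KFlatLib

namespace Groth.Agent.H1Inf

section AtPrime

variable {A B : Type u} [CommRing A] [CommRing B] [IsNoetherianRing A] [IsNoetherianRing B] [Algebra A B]
variable (J : Ideal B) (p : Ideal A) [p.IsPrime] (n : Ideal B) [n.IsPrime] (hn : n.comap (algebraMap A B) = p)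
variable [Algebra (Localization.AtPrime p) (Localization.AtPrime n)] [n.LiesOver p]
  [Localization.AtPrime.IsLiesOverAlgebra p n]

variable (E : Type u) [AddCommGroup E] [Module B E] [Module.Finite B E]

include hn in
/-- Fibre depths at the points over the same prime give the depth of the closed fibre at a prime. -/
theorem le_idealDepth_fibMod_closed (k : ℕ∞)
    (h : ∀ q : PrimeSpectrum B, J ≤ q.asIdeal → q.asIdeal ≤ n → q.asIdeal.comap (algebraMap A B) = p →
      k ≤ LocCoh.idealDepth (q.asIdeal.map (algebraMap B (EGA4.FibLocRing A B q.asIdeal))) (EGA4.FibLocMod A B q.asIdeal E)) :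
    k ≤ LocCoh.idealDepth (J.map (algebraMap B (Localization.AtPrime n)))
      (EGA4.FibMod (Localization.AtPrime p) (Localization.AtPrime n) (LocalizedModule n.primeCompl E)) := by
  haveI : IsNoetherianRing (Localization.AtPrime n) := IsLocalization.isNoetherianRing n.primeCompl _ inferInstance
  let P : Ideal B := p.map (algebraMap A B)
  let Ebar := E ⧸ (P • ⊤ : Submodule B E)
  haveI : Module.Finite (Localization.AtPrime n) (LocalizedModule n.primeCompl Ebar) :=
    Module.Finite.of_isLocalizedModule n.primeCompl (LocalizedModule.mkLinearMap _ _)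
  haveI : Module.Finite (Localization.AtPrime n) (LocalizedModule n.primeCompl E) :=
    Module.Finite.of_isLocalizedModule n.primeCompl (LocalizedModule.mkLinearMap _ _)
  obtain ⟨e⟩ := exists_localizedQuotSMul n.primeCompl P E
  have hP : ∀ (q : Ideal B) [q.IsPrime],
      P.map (algebraMap B (Localization.AtPrime q)) = p.map (algebraMap A (Localization.AtPrime q)) := fun q _ => by
    rw [Ideal.map_map, ← IsScalarTower.algebraMap_eq]
  rw [LC.idealDepth_congr _ (N := LocalizedModule n.primeCompl Ebar) (((Submodule.quotEquivOfEq _ _ (by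
    rw [hP, fibMod_eq p n hn E, hn])).trans e.symm) : EGA4.FibMod (Localization.AtPrime p) (Localization.AtPrime n)
      (LocalizedModule n.primeCompl E) ≃ₗ[Localization.AtPrime n] LocalizedModule n.primeCompl Ebar)]
  suffices key : ∀ (q : Ideal B) [q.IsPrime], J ≤ q → q ≤ n →
      k ≤ LocCoh.depth (Localization.AtPrime q) (LocalizedModule q.primeCompl Ebar) by
    rw [LC.idealDepth_eq_iInf_depth]
    refine le_iInf₂ fun Q hQ => ?_
    rw [Alg6.depth_locLoc]
    refine key _ (Ideal.map_le_iff_le_comap.1 hQ) fun x hx => ?_
    by_contra hxn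
    exact Q.isPrime.ne_top (Ideal.eq_top_of_isUnit_mem _ hx
      (IsLocalization.map_units (Localization.AtPrime n) (⟨x, hxn⟩ : n.primeCompl)))
  intro q _ hJq hqn
  by_cases hs : (⟨q, inferInstance⟩ : PrimeSpectrum B) ∈ Module.support B Ebar
  · have hPq : P ≤ q := fun x hx => by
      by_contra hxq
      obtain ⟨z, hz⟩ := Module.mem_support_iff'.1 hs
      obtain ⟨z, rfl⟩ := Submodule.Quotient.mk_surjective _ z
      exact hz x hxq ((Submodule.Quotient.mk_eq_zero _).2 (Submodule.smul_mem_smul hx trivial))
    have hpq : q.comap (algebraMap A B) = p :=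
      le_antisymm ((Ideal.comap_mono hqn).trans hn.le) (Ideal.map_le_iff_le_comap.1 hPq)
    haveI := FlatLoc6.isLocalRing_fibLocRing (A := A) q
    have hk := h ⟨q, inferInstance⟩ hJq hqn hpq
    rw [map_eq_maximalIdeal_fibLocRing q, show LocCoh.idealDepth (maximalIdeal (EGA4.FibLocRing A B q))
      (EGA4.FibLocMod A B q E) = LocCoh.depth (EGA4.FibLocRing A B q) (EGA4.FibLocMod A B q E) from rfl,
      FlatLoc6.fibDepth_eq] at hk
    obtain ⟨e'⟩ := exists_localizedQuotSMul q.primeCompl P E
    refine hk.trans (le_of_eq (FlatLoc6.depth_congr' ?_).symm)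
    exact e'.trans (Submodule.quotEquivOfEq _ _ (by rw [hP, hpq]))
  · haveI := Module.notMem_support_iff.1 hs
    rw [LocCoh.depth, LocCoh.idealDepth, if_pos (Subsingleton.elim _ _)]
    exact le_top
end AtPrime

variable {A B : Type u} [CommRing A] [CommRing B] [IsNoetherianRing A] [IsNoetherianRing B] [Algebra A B] (J : Ideal B)
variable {F E0 E1 G : Type u}
  [AddCommGroup F] [Module B F] [Module A F] [IsScalarTower A B F] [Module.Finite B F]
  [AddCommGroup E0] [Module B E0] [Module A E0] [IsScalarTower A B E0] [Module.Finite B E0] [Module.Flat A E0]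
  [AddCommGroup E1] [Module B E1] [Module A E1] [IsScalarTower A B E1] [Module.Finite B E1] [Module.Flat A E1]
  [AddCommGroup G] [Module B G] [Module A G] [IsScalarTower A B G] [Module.Finite B G]
  {f : F →ₗ[B] E0} {u : E0 →ₗ[B] E1} {v : E1 →ₗ[B] G}
  (hf : Function.Injective f) (hfu : Function.Exact f u) (huv : Function.Exact u v) (hv : Function.Surjective v)

include hf hfu huv hv in
/-- Flatness of the cokernel at a point from depths on the fibre through it. -/
theorem flatAt_coker_closed (n : Ideal B) [n.IsPrime]
    (h0 : ∀ q : PrimeSpectrum B, J ≤ q.asIdeal → q.asIdeal ≤ n →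
      q.asIdeal.comap (algebraMap A B) = n.comap (algebraMap A B) →
      2 ≤ LocCoh.idealDepth (q.asIdeal.map (algebraMap B (EGA4.FibLocRing A B q.asIdeal))) (EGA4.FibLocMod A B q.asIdeal E0))
    (hGU : ∀ q : PrimeSpectrum B, ¬ J ≤ q.asIdeal → FlatCA.FlatAt A q.asIdeal G)
    (hF : ∀ q : PrimeSpectrum B, J ≤ q.asIdeal → q.asIdeal ≤ n →
      q.asIdeal.comap (algebraMap A B) = n.comap (algebraMap A B) →
      2 ≤ LocCoh.idealDepth (q.asIdeal.map (algebraMap B (EGA4.FibLocRing A B q.asIdeal))) (EGA4.FibLocMod A B q.asIdeal F)) :
    FlatCA.FlatAt A n G := by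
  let p := n.comap (algebraMap A B)
  haveI : n.LiesOver p := ⟨rfl⟩
  letI := Localization.AtPrime.algebraOfLiesOver p n
  haveI := FlatLoc6.isLocalHom_atPrime p n
  let A' := Localization.AtPrime p
  let B' := Localization.AtPrime n
  haveI : IsNoetherianRing A' := IsLocalization.isNoetherianRing p.primeCompl _ inferInstance
  haveI : IsNoetherianRing B' := IsLocalization.isNoetherianRing n.primeCompl _ inferInstance
  letI : Module A' (LocalizedModule n.primeCompl F) := Module.compHom _ (algebraMap A' B')
  letI : Module A' (LocalizedModule n.primeCompl E0) := Module.compHom _ (algebraMap A' B')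
  letI : Module A' (LocalizedModule n.primeCompl E1) := Module.compHom _ (algebraMap A' B')
  letI : Module A' (LocalizedModule n.primeCompl G) := Module.compHom _ (algebraMap A' B')
  haveI : IsScalarTower A' B' (LocalizedModule n.primeCompl F) := IsScalarTower.of_algebraMap_smul fun _ _ => rfl
  haveI : IsScalarTower A' B' (LocalizedModule n.primeCompl E0) := IsScalarTower.of_algebraMap_smul fun _ _ => rfl
  haveI : IsScalarTower A' B' (LocalizedModule n.primeCompl E1) := IsScalarTower.of_algebraMap_smul fun _ _ => rfl
  haveI : IsScalarTower A' B' (LocalizedModule n.primeCompl G) := IsScalarTower.of_algebraMap_smul fun _ _ => rfl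
  haveI : IsScalarTower A A' (LocalizedModule n.primeCompl F) := IsScalarTower.of_algebraMap_smul fun a x => by
    show algebraMap A' B' (algebraMap A A' a) • x = a • x
    rw [← IsScalarTower.algebraMap_apply, algebraMap_smul]
  haveI : IsScalarTower A A' (LocalizedModule n.primeCompl E0) := IsScalarTower.of_algebraMap_smul fun a x => by
    show algebraMap A' B' (algebraMap A A' a) • x = a • x
    rw [← IsScalarTower.algebraMap_apply, algebraMap_smul]
  haveI : IsScalarTower A A' (LocalizedModule n.primeCompl E1) := IsScalarTower.of_algebraMap_smul fun a x => by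
    show algebraMap A' B' (algebraMap A A' a) • x = a • x
    rw [← IsScalarTower.algebraMap_apply, algebraMap_smul]
  haveI : IsScalarTower A A' (LocalizedModule n.primeCompl G) := IsScalarTower.of_algebraMap_smul fun a x => by
    show algebraMap A' B' (algebraMap A A' a) • x = a • x
    rw [← IsScalarTower.algebraMap_apply, algebraMap_smul]
  haveI : Module.Finite B' (LocalizedModule n.primeCompl F) :=
    Module.Finite.of_isLocalizedModule n.primeCompl (LocalizedModule.mkLinearMap _ _)
  haveI : Module.Finite B' (LocalizedModule n.primeCompl E0) :=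
    Module.Finite.of_isLocalizedModule n.primeCompl (LocalizedModule.mkLinearMap _ _)
  haveI : Module.Finite B' (LocalizedModule n.primeCompl E1) :=
    Module.Finite.of_isLocalizedModule n.primeCompl (LocalizedModule.mkLinearMap _ _)
  haveI : Module.Finite B' (LocalizedModule n.primeCompl G) :=
    Module.Finite.of_isLocalizedModule n.primeCompl (LocalizedModule.mkLinearMap _ _)
  haveI : Module.Flat A' (LocalizedModule n.primeCompl E0) :=
    (Module.flat_iff_of_isLocalization A' p.primeCompl _).mpr (flat_localized n.primeCompl E0)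
  haveI : Module.Flat A' (LocalizedModule n.primeCompl E1) :=
    (Module.flat_iff_of_isLocalization A' p.primeCompl _).mpr (flat_localized n.primeCompl E1)
  let J' := J.map (algebraMap B B')
  let f' := LocalizedModule.map n.primeCompl f
  let u' := LocalizedModule.map n.primeCompl u
  let v' := LocalizedModule.map n.primeCompl v
  have hf' : Function.Injective f' := LocalizedModule.map_injective _ f hf
  have hfu' : Function.Exact f' u' := LocalizedModule.map_exact _ f u hfu
  have huv' : Function.Exact u' v' := LocalizedModule.map_exact _ u v huv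
  have hv' : Function.Surjective v' := LocalizedModule.map_surjective _ v hv
  have hGU' : ∀ Q : PrimeSpectrum B', ¬ J' ≤ Q.asIdeal →
      FlatCA.FlatAt A' Q.asIdeal (LocalizedModule n.primeCompl G) := fun Q hQ => by
    let q := Q.asIdeal.comap (algebraMap B B')
    have hq : ¬ J ≤ q := fun h => hQ (Ideal.map_le_iff_le_comap.2 h)
    haveI hflat : Module.Flat A (LocalizedModule q.primeCompl G) := hGU ⟨q, inferInstance⟩ hq
    refine (Module.flat_iff_of_isLocalization A' p.primeCompl _).mpr ?_
    exact Module.Flat.of_linearEquiv
      (((IsLocalizedModule.iso q.primeCompl (Alg6.locLocMap n.primeCompl G Q.asIdeal)).restrictScalars A).symm)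
  have d0 := le_idealDepth_fibMod_closed J p n rfl E0 2 h0
  have dF := le_idealDepth_fibMod_closed J p n rfl F 2 hF
  exact (Module.flat_iff_of_isLocalization A' p.primeCompl _).mp
    (flat_coker_of_fibMod J' hf' hfu' huv' hv' hGU' d0 dF).1

end Groth.Agent.H1Inf
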