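import Groth.Agent.H1FourTerm.Basic
import Groth.Agent.LC.DepthLoc

/-!
# Double duals and maps which are isomorphisms off a closed subset
-/

set_option autoImplicit false
set_option linter.style.haveILetI false
set_option linter.unusedSectionVars false

universe u

open IsLocalRing

namespace Groth.Agent.H1Inf

variable {B : Type u} [CommRing B] [IsNoetherianRing B] (J : Ideal B)

/-- Duals of finite modules are finite. -/
theorem finite_dual (N : Type u) [AddCommGroup N] [Module B N] [Module.Finite B N] : Module.Finite B (Module.Dual B N) := by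
  obtain ⟨n, g, hg⟩ := Module.Finite.exists_fin' B N
  exact Module.Finite.of_injective g.dualMap (LinearMap.dualMap_injective_of_surjective hg)

/-- A dual sits in a left exact sequence of free modules. -/
theorem exists_dual_presentation (N : Type u) [AddCommGroup N] [Module B N] [Module.Finite B N] :
    ∃ (n m : ℕ) (a : Module.Dual B N →ₗ[B] (Fin n → B)) (b : (Fin n → B) →ₗ[B] (Fin m → B)),
      Function.Injective a ∧ Function.Exact a b := by
  obtain ⟨n, g, hg⟩ := Module.Finite.exists_fin' B N
  obtain ⟨m, k, hk⟩ := Module.Finite.exists_fin' B (LinearMap.ker g)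
  let h' : (Fin m → B) →ₗ[B] (Fin n → B) := (LinearMap.ker g).subtype ∘ₗ k
  let e0 : Module.Dual B (Fin n → B) ≃ₗ[B] (Fin n → B) := (Pi.basisFun B (Fin n)).toDualEquiv.symm
  let e1 : Module.Dual B (Fin m → B) ≃ₗ[B] (Fin m → B) := (Pi.basisFun B (Fin m)).toDualEquiv.symm
  refine ⟨n, m, e0.toLinearMap ∘ₗ g.dualMap, e1.toLinearMap ∘ₗ h'.dualMap ∘ₗ e0.symm.toLinearMap,
    e0.injective.comp (LinearMap.dualMap_injective_of_surjective hg), fun x => ⟨fun hx => ?_, ?_⟩⟩
  · have h2 : h'.dualMap (e0.symm x) = 0 := e1.injective (by rw [map_zero]; exact hx)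
    have h3 : LinearMap.ker g ≤ LinearMap.ker (e0.symm x) := fun z hz => by
      obtain ⟨w, hw⟩ := hk ⟨z, hz⟩
      rw [LinearMap.mem_ker, ← show h' w = z from congrArg Subtype.val hw]
      exact LinearMap.congr_fun h2 w
    let φ : Module.Dual B N :=
      (Submodule.liftQ _ (e0.symm x) h3) ∘ₗ (LinearMap.quotKerEquivOfSurjective g hg).symm.toLinearMap
    refine ⟨φ, ?_⟩
    show e0 (g.dualMap φ) = x
    have : g.dualMap φ = e0.symm x := LinearMap.ext fun z => by
      show (Submodule.liftQ _ (e0.symm x) h3) ((LinearMap.quotKerEquivOfSurjective g hg).symm (g z)) = _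
      rw [show (LinearMap.quotKerEquivOfSurjective g hg).symm (g z) = Submodule.Quotient.mk z from
        (LinearEquiv.symm_apply_eq _).2 (by simp)]
      rfl
    rw [this, LinearEquiv.apply_symm_apply]
  · rintro ⟨φ, rfl⟩
    show e1 (h'.dualMap (e0.symm (e0 (g.dualMap φ)))) = 0
    rw [LinearEquiv.symm_apply_apply, LinearEquiv.map_eq_zero_iff]
    refine LinearMap.ext fun w => ?_
    show φ (g (h' w)) = 0
    rw [show g (h' w) = 0 from LinearMap.mem_ker.1 (k w).2, map_zero]

/-- Duals have depth at least two where the ring does, after localizing. -/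
theorem two_le_idealDepth_dual_localized (q : Ideal B) [q.IsPrime]
    (hL : ((2 : ℕ) : ℕ∞) ≤ LocCoh.idealDepth (J.map (algebraMap B (Localization.AtPrime q))) (Localization.AtPrime q))
    (N : Type u) [AddCommGroup N] [Module B N] [Module.Finite B N] :
    2 ≤ LocCoh.idealDepth (J.map (algebraMap B (Localization.AtPrime q)))
      (LocalizedModule q.primeCompl (Module.Dual B N)) := by
  haveI := finite_dual (B := B) N
  obtain ⟨n, m, a, b, ha, hab⟩ := exists_dual_presentation (B := B) N
  haveI : IsNoetherianRing (Localization.AtPrime q) := IsLocalization.isNoetherianRing q.primeCompl _ inferInstance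
  have hL1 : ((1 : ℕ) : ℕ∞) ≤ LocCoh.idealDepth (J.map (algebraMap B (Localization.AtPrime q))) (Localization.AtPrime q) :=
    le_trans (Nat.cast_le.2 one_le_two) hL
  haveI : ∀ k : ℕ, Module.Projective (Localization.AtPrime q) (LocalizedModule q.primeCompl (Fin k → B)) := fun k =>
    Module.projective_of_isLocalizedModule q.primeCompl (LocalizedModule.mkLinearMap q.primeCompl (Fin k → B))
  haveI : ∀ k : ℕ, Module.Finite (Localization.AtPrime q) (LocalizedModule q.primeCompl (Fin k → B)) := fun k =>
    Module.Finite.of_isLocalizedModule q.primeCompl (LocalizedModule.mkLinearMap _ _)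
  haveI : Module.Finite (Localization.AtPrime q) (LocalizedModule q.primeCompl (Module.Dual B N)) :=
    Module.Finite.of_isLocalizedModule q.primeCompl (LocalizedModule.mkLinearMap _ _)
  have h0 := H1FourTerm.le_idealDepth_projective _ 2 hL (LocalizedModule q.primeCompl (Fin n → B))
  have h1 := H1FourTerm.le_idealDepth_projective _ 1 hL1 (LocalizedModule q.primeCompl (Fin m → B))
  rw [Nat.cast_one] at h1
  rw [Nat.cast_ofNat] at h0
  exact KFlatLib.two_le_idealDepth_of_exact _ (LocalizedModule.map q.primeCompl a) (LocalizedModule.map q.primeCompl b)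
    (LocalizedModule.map_injective _ a ha) (LocalizedModule.map_exact _ a b hab) h0 h1

/-- A map which is an isomorphism off `V(J)` is one at a prime where the depths are large. -/
theorem bijective_localized_of_off {X Y : Type u} [AddCommGroup X] [Module B X] [Module.Finite B X]
    [AddCommGroup Y] [Module B Y] [Module.Finite B Y] (φ : X →ₗ[B] Y) (q : Ideal B) [q.IsPrime]
    (hker : ∀ Q : PrimeSpectrum B, ¬ J ≤ Q.asIdeal → Q.asIdeal ≤ q → ∀ x, φ x = 0 → ∃ t ∉ Q.asIdeal, t • x = 0)
    (hcoker : ∀ Q : PrimeSpectrum B, ¬ J ≤ Q.asIdeal → Q.asIdeal ≤ q → ∀ y, ∃ t ∉ Q.asIdeal, t • y ∈ LinearMap.range φ)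
    (hX : 2 ≤ LocCoh.idealDepth (J.map (algebraMap B (Localization.AtPrime q))) (LocalizedModule q.primeCompl X))
    (hY : 1 ≤ LocCoh.idealDepth (J.map (algebraMap B (Localization.AtPrime q))) (LocalizedModule q.primeCompl Y)) :
    Function.Bijective (LocalizedModule.map q.primeCompl φ) := by
  let S := q.primeCompl
  let L := Localization.AtPrime q
  haveI : IsNoetherianRing L := IsLocalization.isNoetherianRing S _ inferInstance
  haveI : Module.Finite L (LocalizedModule S X) :=
    Module.Finite.of_isLocalizedModule S (LocalizedModule.mkLinearMap _ _)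
  haveI : Module.Finite L (LocalizedModule S Y) :=
    Module.Finite.of_isLocalizedModule S (LocalizedModule.mkLinearMap _ _)
  let c : PrimeSpectrum L → PrimeSpectrum B := PrimeSpectrum.comap (algebraMap B L)
  have hle : ∀ P : PrimeSpectrum L, (c P).asIdeal ≤ q := fun P z hz => by
    by_contra hn
    exact P.2.ne_top (Ideal.eq_top_of_isUnit_mem _ hz (IsLocalization.map_units L (⟨z, hn⟩ : S)))
  have hJ : ∀ P : PrimeSpectrum L, ¬ J.map (algebraMap B L) ≤ P.asIdeal → ¬ J ≤ (c P).asIdeal := fun P hP h =>
    hP (Ideal.map_le_iff_le_comap.2 h)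
  refine KFlatLib.bijective_of_bijective_off (J.map (algebraMap B L)) _ (fun P hP z hz => ?_) (fun P hP z => ?_) hX hY
  · induction z using LocalizedModule.induction_on with
    | h x s =>
      rw [LocalizedModule.map_mk] at hz
      obtain ⟨t₀, ht₀⟩ := LocalizedModule.mk_eq.1 (hz.trans (LocalizedModule.zero_mk s).symm)
      have h0 : φ (((t₀ : B) * (s : B)) • x) = 0 := by
        rw [map_smul, mul_smul]
        simpa [Submonoid.smul_def] using ht₀
      obtain ⟨t, ht, htx⟩ := hker (c P) (hJ P hP) (hle P) _ h0
      refine ⟨algebraMap B L (t * ((t₀ : B) * s)), fun h => ?_, ?_⟩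
      · rcases (c P).2.mem_or_mem (show t * ((t₀ : B) * s) ∈ (c P).asIdeal from h) with h | h
        · exact ht h
        · exact mul_mem t₀.2 s.2 (hle P h)
      · rw [algebraMap_smul, LocalizedModule.smul'_mk, mul_smul, htx, LocalizedModule.zero_mk]
  · induction z using LocalizedModule.induction_on with
    | h y s =>
      obtain ⟨t, ht, x, hx⟩ := hcoker (c P) (hJ P hP) (hle P) y
      refine ⟨algebraMap B L t, ht, LocalizedModule.mk x s, ?_⟩
      rw [LocalizedModule.map_mk, hx, algebraMap_smul, LocalizedModule.smul'_mk]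

/-- The map out of the double dual induced by a map to a reflexive module. -/
noncomputable def ddMap {N E E1 : Type u} [AddCommGroup N] [Module B N] [AddCommGroup E] [Module B E]
    [Module.IsReflexive B E] [AddCommGroup E1] [Module B E1] [Module.IsReflexive B E1]
    (f : N →ₗ[B] E) (u : E →ₗ[B] E1) (h : ∀ x, u (f x) = 0) :
    Module.Dual B (Module.Dual B N) →ₗ[B] LinearMap.ker u :=
  LinearMap.codRestrict _ ((Module.evalEquiv B E).symm.toLinearMap ∘ₗ f.dualMap.dualMap) fun d => by
    refine LinearMap.mem_ker.2 ((Module.evalEquiv B E1).injective (LinearMap.ext fun ξ => ?_))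
    rw [map_zero, Module.evalEquiv_apply, Module.Dual.eval_apply, LinearMap.zero_apply, LinearMap.comp_apply,
      LinearEquiv.coe_coe]
    show (ξ ∘ₗ u) ((Module.evalEquiv B E).symm (f.dualMap.dualMap d)) = 0
    rw [← Module.Dual.eval_apply B E, ← Module.evalEquiv_apply, LinearEquiv.apply_symm_apply]
    show d ((ξ ∘ₗ u) ∘ₗ f) = 0
    rw [show (ξ ∘ₗ u) ∘ₗ f = 0 from LinearMap.ext fun x => by simp [h x], map_zero]

theorem ddMap_eval {N E E1 : Type u} [AddCommGroup N] [Module B N] [AddCommGroup E] [Module B E]
    [Module.IsReflexive B E] [AddCommGroup E1] [Module B E1] [Module.IsReflexive B E1]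
    (f : N →ₗ[B] E) (u : E →ₗ[B] E1) (h : ∀ x, u (f x) = 0) (x : N) :
    (ddMap f u h (Module.Dual.eval B N x) : E) = f x := by
  show (Module.evalEquiv B E).symm (f.dualMap.dualMap (Module.Dual.eval B N x)) = f x
  rw [LinearEquiv.symm_apply_eq]
  exact LinearMap.ext fun ξ => rfl

end Groth.Agent.H1Inf
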