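import Groth.Agent.H1Inf.Main
import Groth.Agent.FlatDvrVC5.Complete

/-!
# The hypothesis of the valuative criterion at a localization
-/

set_option autoImplicit false
set_option linter.style.haveILetI false
set_option linter.unusedSectionVars false
set_option maxHeartbeats 1000000

universe u

open TensorProduct IsLocalRing

namespace Groth.Agent.H1Inf

attribute [local instance] Algebra.TensorProduct.rightAlgebra

variable {A B : Type u} [CommRing A] [CommRing B] [Algebra A B]

/-- Flatness upstairs at the images of a point gives the hypothesis of the valuative criterion. -/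
theorem flatAway_localized (n : Ideal B) [n.IsPrime] (G : Type u) [AddCommGroup G] [Module B G] [Module A G]
    [IsScalarTower A B G] [IsScalarTower A (Localization.AtPrime n) (LocalizedModule n.primeCompl G)]
    (V : Type u) [CommRing V] [Algebra A V] (P : Ideal (V ⊗[A] Localization.AtPrime n)) [P.IsPrime]
    (hP : P.comap (Algebra.TensorProduct.includeRight :
      Localization.AtPrime n →ₐ[A] V ⊗[A] Localization.AtPrime n).toRingHom = maximalIdeal (Localization.AtPrime n))
    (h : ∀ q' : PrimeSpectrum (V ⊗[A] B), q'.asIdeal.comap (algebraMap B (V ⊗[A] B)) = n →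
      q'.asIdeal.comap (algebraMap V (V ⊗[A] B)) = P.comap Algebra.TensorProduct.includeLeftRingHom →
      FlatCA.FlatAt V q'.asIdeal ((V ⊗[A] B) ⊗[B] G)) :
    FlatDvrVC5.FlatAway V P ((V ⊗[A] Localization.AtPrime n) ⊗[Localization.AtPrime n]
      LocalizedModule n.primeCompl G) := by
  let L := Localization.AtPrime n
  let C' := V ⊗[A] B
  let T := V ⊗[A] L
  letI : Algebra C' T := (Algebra.TensorProduct.map (AlgHom.id V V) (IsScalarTower.toAlgHom A B L)).toRingHom.toAlgebra
  letI : Algebra B T := ((algebraMap L T).comp (algebraMap B L)).toAlgebra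
  haveI : IsScalarTower B L T := IsScalarTower.of_algebraMap_eq fun _ => rfl
  haveI : IsScalarTower B C' T := IsScalarTower.of_algebraMap_eq fun b => by
    simp [RingHom.algebraMap_toAlgebra, C', T]
  haveI : IsScalarTower V C' T := IsScalarTower.of_algebraMap_eq fun v => by
    simp [RingHom.algebraMap_toAlgebra, Algebra.TensorProduct.algebraMap_apply, C', T]; rfl
  haveI : IsScalarTower A B T := IsScalarTower.of_algebraMap_eq fun a => by
    show algebraMap A T a = algebraMap L T (algebraMap B L (algebraMap A B a))
    rw [← IsScalarTower.algebraMap_apply A B L, ← IsScalarTower.algebraMap_apply A L T]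
  haveI : IsScalarTower A C' T := IsScalarTower.to₁₃₄ A B C' T
  haveI h1 : Algebra.IsPushout A L V T := Algebra.IsPushout.symm inferInstance
  haveI : Algebra.IsPushout A B V C' := Algebra.IsPushout.symm inferInstance
  haveI h2 : Algebra.IsPushout B L C' T := (Algebra.IsPushout.comp_iff A B V C').1 h1
  haveI : IsLocalization (Algebra.algebraMapSubmonoid C' n.primeCompl) T := by
    rw [Algebra.isLocalization_iff_isPushout _ L]
    exact h2.symm
  -- the point below
  let q : Ideal C' := P.comap (algebraMap C' T)
  haveI : q.IsPrime := Ideal.IsPrime.comap _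
  have hqn : q.comap (algebraMap B C') = n := by
    rw [Ideal.comap_comap, ← IsScalarTower.algebraMap_eq, IsScalarTower.algebraMap_eq B L T, ← Ideal.comap_comap]
    rw [show P.comap (algebraMap L T) = maximalIdeal L from hP]
    exact Localization.AtPrime.comap_maximalIdeal
  have hqV : q.comap (algebraMap V C') = P.comap Algebra.TensorProduct.includeLeftRingHom := by
    rw [Ideal.comap_comap, ← IsScalarTower.algebraMap_eq]
    rfl
  let G' := C' ⊗[B] G
  let X := T ⊗[L] LocalizedModule n.primeCompl G
  -- the comparison is a localization
  let g₀ : G →ₗ[B] X := ((TensorProduct.mk L T (LocalizedModule n.primeCompl G) 1).restrictScalars B) ∘ₗ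
    LocalizedModule.mkLinearMap n.primeCompl G
  have hg₀ : IsBaseChange T g₀ :=
    (IsLocalizedModule.isBaseChange n.primeCompl L (LocalizedModule.mkLinearMap n.primeCompl G)).comp
      (TensorProduct.isBaseChange L (LocalizedModule n.primeCompl G) T)
  haveI : IsScalarTower C' T X := inferInstance
  haveI : IsScalarTower B C' X := IsScalarTower.of_algebraMap_smul (R := B) (A := C') (M := X) fun b x => by
    rw [← algebraMap_smul T (algebraMap B C' b) x, ← IsScalarTower.algebraMap_apply, algebraMap_smul]
  let γ : G' →ₗ[C'] X := LinearMap.liftBaseChange C' g₀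
  have hγ : IsBaseChange T γ := by
    refine IsBaseChange.of_comp (TensorProduct.isBaseChange B G C') ?_
    convert hg₀ using 2
    refine LinearMap.ext fun x => ?_
    show γ ((1 : C') ⊗ₜ[B] x) = g₀ x
    rw [LinearMap.liftBaseChange_tmul, one_smul]
  let TP := Localization.AtPrime P
  haveI := IsLocalization.isLocalization_isLocalization_atPrime_isLocalization
    (Algebra.algebraMapSubmonoid C' n.primeCompl) TP P
  let h' : G' →ₗ[C'] LocalizedModule P.primeCompl X :=
    ((LocalizedModule.mkLinearMap P.primeCompl X).restrictScalars C') ∘ₗ γ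
  haveI : IsLocalizedModule q.primeCompl h' := by
    rw [isLocalizedModule_iff_isBaseChange _ TP]
    exact hγ.comp (IsLocalizedModule.isBaseChange P.primeCompl TP (LocalizedModule.mkLinearMap P.primeCompl X))
  haveI : IsScalarTower V C' (LocalizedModule P.primeCompl X) :=
    IsScalarTower.of_algebraMap_smul (R := V) (A := C') (M := LocalizedModule P.primeCompl X) fun v x => by
    rw [← algebraMap_smul T (algebraMap V C' v) x, ← IsScalarTower.algebraMap_apply, algebraMap_smul]
  have hflat : Module.Flat V (LocalizedModule q.primeCompl G') := h ⟨q, inferInstance⟩ hqn hqV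
  rw [FlatDvrVC5.flatAway_iff]
  exact Module.Flat.of_linearEquiv ((IsLocalizedModule.iso q.primeCompl h').restrictScalars V).symm

end Groth.Agent.H1Inf
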