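import Groth.Agent.H1Inf.Ring
import Mathlib.RingTheory.IsTensorProduct
import Mathlib.RingTheory.LocalRing.ResidueField.Basic

/-!
# Depth of the closed fibre after a local base change
-/

set_option autoImplicit false
set_option linter.style.haveILetI false
set_option linter.unusedSectionVars false
set_option maxHeartbeats 800000

universe u

open TensorProduct IsLocalRing

namespace Groth.Agent.H1Inf

/-- The depth of a field as a local ring at a prime vanishes. -/
theorem depth_atPrime_field {k : Type u} [Field k] (p : Ideal k) [p.IsPrime] :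
    LocCoh.depth (Localization.AtPrime p) (Localization.AtPrime p) = 0 := by
  have h : ¬ 1 ≤ LocCoh.depth (Localization.AtPrime p) (LocalizedModule p.primeCompl k) := by
    rw [Alg6.one_le_depth_atPrime_iff, not_not]
    obtain ⟨Q, hQ⟩ := associatedPrimes.nonempty k k
    haveI := hQ.isPrime
    rwa [(Ideal.eq_bot_or_top p).resolve_right (Ideal.IsPrime.ne_top ‹_›),
      ← (Ideal.eq_bot_or_top Q).resolve_right hQ.isPrime.ne_top]
  rw [FlatLoc6.depth_self_atPrime] at h
  rwa [Order.one_le_iff_ne_zero, not_not] at h

variable {A B A' B' : Type u} [CommRing A] [CommRing B] [IsNoetherianRing A] [IsNoetherianRing B] [Algebra A B]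
  [Algebra.FiniteType A B] [Module.Flat A B] [IsLocalRing A]
  [CommRing A'] [IsNoetherianRing A'] [IsLocalRing A'] [Algebra A A'] [IsLocalHom (algebraMap A A')]
  [CommRing B'] [IsNoetherianRing B'] [Algebra B B'] [Algebra A' B'] [Algebra A B'] [IsScalarTower A B B']
  [IsScalarTower A A' B'] [Algebra.IsPushout A B A' B']

attribute [local instance] Algebra.TensorProduct.rightAlgebra in
/-- The closed fibres only get deeper under a local base change. -/
theorem fibDepth_le_baseChange (r : Ideal B') [r.IsPrime] (hr : r.comap (algebraMap A' B') = maximalIdeal A') :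
    FlatLoc6.fibDepth A (r.comap (algebraMap B B')) B ≤ FlatLoc6.fibDepth A' r B' := by
  classical
  let κ := ResidueField A
  let k' := ResidueField A'
  let B0 := B ⊗[A] κ
  let B1 := B ⊗[A] k'
  letI : Algebra B0 B1 := (Algebra.TensorProduct.map (AlgHom.id B B) (IsScalarTower.toAlgHom A κ k')).toRingHom.toAlgebra
  haveI : IsScalarTower B B0 B1 := IsScalarTower.of_algebraMap_eq fun b => by
    simp [RingHom.algebraMap_toAlgebra, Algebra.TensorProduct.algebraMap_apply, B0, B1]
  letI : Algebra κ B1 := ((algebraMap k' B1).comp (algebraMap κ k')).toAlgebra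
  haveI : IsScalarTower κ k' B1 := IsScalarTower.of_algebraMap_eq fun _ => rfl
  haveI : IsScalarTower κ B0 B1 := IsScalarTower.of_algebraMap_eq fun x => by
    simp [RingHom.algebraMap_toAlgebra, B0, B1]
  haveI : IsScalarTower A B0 B1 := IsScalarTower.to₁₃₄ A B B0 B1
  haveI : Algebra.IsPushout A κ B B0 := Algebra.IsPushout.symm inferInstance
  haveI h1 : Algebra.IsPushout A k' B B1 := Algebra.IsPushout.symm inferInstance
  haveI : Algebra.IsPushout κ k' B0 B1 := (Algebra.IsPushout.comp_iff A κ B B0).1 h1
  haveI : IsNoetherianRing B0 := isNoetherianRing_of_surjective B B0 (algebraMap B B0) fun z => by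
    induction z using TensorProduct.induction_on with
    | zero => exact ⟨0, map_zero _⟩
    | tmul b x =>
      obtain ⟨a, rfl⟩ := residue_surjective x
      exact ⟨a • b, by rw [Algebra.TensorProduct.algebraMap_apply, Algebra.algebraMap_self, RingHom.id_apply,
        TensorProduct.smul_tmul, ← Algebra.algebraMap_eq_smul_one]; rfl⟩
    | add x y hx hy =>
      obtain ⟨a, rfl⟩ := hx
      obtain ⟨b, rfl⟩ := hy
      exact ⟨a + b, map_add _ _ _⟩
  haveI : IsNoetherianRing B1 :=
    haveI : IsNoetherianRing (k' ⊗[A] B) := Algebra.FiniteType.isNoetherianRing k' _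
    isNoetherianRing_of_ringEquiv _ (Algebra.TensorProduct.comm A k' B).toRingEquiv
  haveI : Module.Flat B0 B1 :=
    haveI : Module.Flat κ k' := inferInstance
    haveI : Algebra.IsPushout κ B0 k' B1 := Algebra.IsPushout.symm inferInstance
    Module.Flat.of_linearEquiv (Algebra.IsPushout.out (R := κ) (S := B0) (R' := k') (S' := B1)).equiv.symm
  haveI : Module.Flat κ B0 := inferInstance
  -- the map from the new ring and the point above `r`
  let gB : B →ₐ[A] B1 := IsScalarTower.toAlgHom A B B1
  let gA : A' →ₐ[A] B1 := (IsScalarTower.toAlgHom A k' B1).comp (IsScalarTower.toAlgHom A A' k')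
  let ψ : B' →ₐ[A] B1 := Algebra.pushoutDesc B' gB gA fun _ _ => mul_comm _ _
  letI : Algebra B' B1 := ψ.toRingHom.toAlgebra
  letI : Algebra A' B1 := gA.toRingHom.toAlgebra
  haveI : IsScalarTower A A' B1 := IsScalarTower.of_algebraMap_eq fun x => (gA.commutes x).symm
  haveI : IsScalarTower A' k' B1 := IsScalarTower.of_algebraMap_eq fun _ => rfl
  haveI : IsScalarTower A' B' B1 := IsScalarTower.of_algebraMap_eq fun x =>
    (Algebra.pushoutDesc_right (R := A) (S := B) B' gB gA (fun _ _ => mul_comm _ _) x).symm
  haveI : IsScalarTower B B' B1 := IsScalarTower.of_algebraMap_eq fun x =>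
    (Algebra.pushoutDesc_left (R := A) (S := B) B' gB gA (fun _ _ => mul_comm _ _) x).symm
  haveI : IsScalarTower A B' B1 := IsScalarTower.to₁₃₄ A B B' B1
  haveI : Algebra.IsPushout A A' B B' := Algebra.IsPushout.symm inferInstance
  haveI h2 : Algebra.IsPushout A' k' B' B1 := (Algebra.IsPushout.comp_iff A A' B B').1 h1
  haveI : Algebra.IsPushout A' B' k' B1 := Algebra.IsPushout.symm h2
  let χA : k' →ₐ[A] r.ResidueField :=
    Ideal.Quotient.liftₐ (maximalIdeal A') (IsScalarTower.toAlgHom A A' r.ResidueField) fun x hx => by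
      rw [IsScalarTower.coe_toAlgHom', IsScalarTower.algebraMap_apply A' B' r.ResidueField,
        Ideal.algebraMap_residueField_eq_zero]
      exact hr.ge hx
  let χ : B1 →ₐ[A] r.ResidueField :=
    Algebra.TensorProduct.lift (IsScalarTower.toAlgHom A B r.ResidueField) χA fun _ _ => Commute.all _ _
  let r1 := RingHom.ker χ.toRingHom
  haveI : r1.IsPrime := RingHom.ker_isPrime _
  have hψ : (χ.comp ψ) = IsScalarTower.toAlgHom A B' r.ResidueField := by
    refine Algebra.IsPushout.algHom_ext (R := A) (S := B) (R' := A') B' (AlgHom.ext fun x => ?_) (AlgHom.ext fun x => ?_)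
    · show χ (ψ (algebraMap A' B' x)) = algebraMap B' r.ResidueField (algebraMap A' B' x)
      rw [Algebra.pushoutDesc_right, ← IsScalarTower.algebraMap_apply]
      show χ ((1 : B) ⊗ₜ[A] residue A' x) = _
      rw [Algebra.TensorProduct.lift_tmul, map_one, one_mul]
      rfl
    · show χ (ψ (algebraMap B B' x)) = algebraMap B' r.ResidueField (algebraMap B B' x)
      rw [Algebra.pushoutDesc_left, ← IsScalarTower.algebraMap_apply]
      show χ (x ⊗ₜ[A] (1 : k')) = _
      rw [Algebra.TensorProduct.lift_tmul, map_one, mul_one]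
      rfl
  have hr1 : r1.comap (algebraMap B' B1) = r := by
    ext x
    rw [Ideal.mem_comap, RingHom.mem_ker, ← Ideal.algebraMap_residueField_eq_zero (I := r)]
    exact Eq.congr_left (AlgHom.congr_fun hψ x)
  -- the two reductions
  have e1 : FlatLoc6.fibDepth k' r1 B1 = FlatLoc6.fibDepth A' r B' := by
    conv_rhs => simp only [← hr1]
    exact fibDepth_baseChange_self (A := A') (B := B') Ideal.Quotient.mk_surjective r1
  let r0 := r1.comap (algebraMap B0 B1)
  have e0 : FlatLoc6.fibDepth κ r0 B0 = FlatLoc6.fibDepth A (r.comap (algebraMap B B')) B := by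
    haveI : Algebra.IsPushout A B κ B0 := inferInstance
    rw [fibDepth_baseChange_self (A := A) (B := B) (A' := κ) Ideal.Quotient.mk_surjective r0]
    have : r0.comap (algebraMap B B0) = r.comap (algebraMap B B') := by
      simp only [← hr1, r0, Ideal.comap_comap, ← IsScalarTower.algebraMap_eq]
    simp only [this]
  rw [← e0, ← e1]
  have h10 := (FlatLoc6.formulas_self (A := κ) _ r0 rfl).1
  have h11 := (FlatLoc6.formulas_self (A := k') _ r1 rfl).1
  have h12 := (FlatLoc6.formulas_self (A := B0) _ r1 (rfl : r1.comap (algebraMap B0 B1) = r0)).1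
  rw [depth_atPrime_field, zero_add] at h10 h11
  rw [← h10, ← h11, h12]
  exact le_self_add

end Groth.Agent.H1Inf
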