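import Groth.Agent.H1Inf.Test
import Groth.Agent.H1Inf.Field
import Groth.Agent.H1Inf.Closed
import Groth.Agent.LC.DepthFlatFibre
import Mathlib.RingTheory.DiscreteValuationRing.Basic

/-!
# Flatness of the cokernel over a discrete valuation ring
-/

set_option autoImplicit false
set_option linter.style.haveILetI false
set_option linter.unusedSectionVars false
set_option maxHeartbeats 800000

universe u

open TensorProduct IsLocalRing
open scoped Pointwise

namespace Groth.Agent.H1Inf

/-- A discrete valuation ring has depth at least one at its closed point. -/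
theorem one_le_depth_dvr (V : Type u) [CommRing V] [IsDomain V] [IsDiscreteValuationRing V] (p : Ideal V) [p.IsPrime]
    (hp : p = maximalIdeal V) : 1 ≤ LocCoh.depth (Localization.AtPrime p) (Localization.AtPrime p) := by
  rw [← FlatLoc6.depth_self_atPrime, Alg6.one_le_depth_atPrime_iff]
  intro h
  obtain ⟨-, z, hz⟩ := Alg6.mem_ass_iff.1 h
  obtain ⟨t, ht, ht0⟩ := Submodule.exists_mem_ne_zero_of_ne_bot (IsDiscreteValuationRing.not_a_field V)
  have h1 : t • z = 0 := (hz t).1 (hp ▸ ht)
  rw [smul_eq_mul, mul_eq_zero] at h1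
  have hz0 : z = 0 := h1.resolve_left ht0
  exact Ideal.IsPrime.ne_top ‹p.IsPrime› ((Ideal.eq_top_iff_one _).2 ((hz 1).2 (by rw [hz0, smul_zero])))

variable {A B V B' : Type u} [CommRing A] [IsNoetherianRing A] [IsLocalRing A] [CommRing B] [IsNoetherianRing B]
  [Algebra A B] [Algebra.FiniteType A B] [Module.Flat A B]
  [CommRing V] [IsDomain V] [IsDiscreteValuationRing V] [Algebra A V] [IsLocalHom (algebraMap A V)]
  [CommRing B'] [IsNoetherianRing B'] [Algebra B B'] [Algebra V B'] [Algebra A B'] [IsScalarTower A B B']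
  [IsScalarTower A V B'] [Algebra.IsPushout A B V B']
  (J : Ideal B) (n : Ideal B) [n.IsPrime] (hn : (maximalIdeal A).map (algebraMap A B) ≤ n)
  (hS2 : LocCoh.HasSk 2 (EGA4.FibLocRing A B n) (EGA4.FibLocRing A B n))
  (hcodim : ∀ q : PrimeSpectrum B, J ≤ q.asIdeal → (2 : WithBot ℕ∞) ≤ ringKrullDim (EGA4.FibLocRing A B q.asIdeal))
  (q' : Ideal B') [q'.IsPrime] (hq' : q'.comap (algebraMap B B') = n)

include hn hS2 hcodim hq' in
theorem two_le_fibDepth_dvr (r : Ideal B') [r.IsPrime] (hr : r ≤ q')
    (hrV : r.comap (algebraMap V B') = maximalIdeal V) (hJ : J.map (algebraMap B B') ≤ r) :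
    ((2 : ℕ) : ℕ∞) ≤ FlatLoc6.fibDepth V r B' := by
  have hm : (maximalIdeal V).comap (algebraMap A V) = maximalIdeal A :=
    IsLocalRing.maximalIdeal_comap (algebraMap A V)
  have h1 : (r.comap (algebraMap B B')).comap (algebraMap A B) = maximalIdeal A := by
    rw [Ideal.comap_comap, ← IsScalarTower.algebraMap_eq, IsScalarTower.algebraMap_eq A V B', ← Ideal.comap_comap,
      hrV, hm]
  have h2 : n.comap (algebraMap A B) = maximalIdeal A :=
    ((maximalIdeal.isMaximal A).eq_of_le (Ideal.IsPrime.comap _).ne_top (Ideal.map_le_iff_le_comap.1 hn)).symm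
  exact (two_le_fibDepth_of_hasSk n hS2 J hcodim _ (hq' ▸ Ideal.comap_mono hr) (h1.trans h2.symm)
    (Ideal.map_le_iff_le_comap.1 hJ)).trans (fibDepth_le_baseChange (A := A) (B := B) r hrV)

include hn hS2 hcodim hq' in
theorem two_le_idealDepth_dvr (r : Ideal B') [r.IsPrime] (hr : r ≤ q')
    (hrV : r.comap (algebraMap V B') = maximalIdeal V) :
    ((2 : ℕ) : ℕ∞) ≤ LocCoh.idealDepth ((J.map (algebraMap B B')).map (algebraMap B' (Localization.AtPrime r)))
      (Localization.AtPrime r) := by
  haveI : Algebra.IsPushout A V B B' := Algebra.IsPushout.symm inferInstance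
  haveI : Module.Flat V B' :=
    haveI : Module.Flat V (V ⊗[A] B) := inferInstance
    Module.Flat.of_linearEquiv (Algebra.IsPushout.out (R := A) (S := V) (R' := B) (S' := B')).equiv.symm
  let L := Localization.AtPrime r
  let p := r.comap (algebraMap V B')
  haveI : r.LiesOver p := ⟨rfl⟩
  letI := Localization.AtPrime.algebraOfLiesOver p r
  haveI := FlatLoc6.isLocalHom_atPrime p r
  let V' := Localization.AtPrime p
  haveI : IsNoetherianRing V' := IsLocalization.isNoetherianRing p.primeCompl _ inferInstance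
  haveI : IsNoetherianRing L := IsLocalization.isNoetherianRing r.primeCompl _ inferInstance
  let N := LocalizedModule r.primeCompl B'
  haveI : Module.Finite L N := Module.Finite.of_isLocalizedModule r.primeCompl (LocalizedModule.mkLinearMap _ _)
  haveI : Nontrivial N := (LC.selfLoc r.primeCompl).toEquiv.nontrivial
  letI : Module V' N := Module.compHom _ (algebraMap V' L)
  haveI : IsScalarTower V' L N := IsScalarTower.of_algebraMap_smul fun _ _ => rfl
  haveI : IsScalarTower V V' N := IsScalarTower.of_algebraMap_smul fun a x => by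
    show algebraMap V' L (algebraMap V V' a) • x = a • x
    rw [← IsScalarTower.algebraMap_apply, algebraMap_smul]
  haveI : Module.Flat V' N :=
    (Module.flat_iff_of_isLocalization V' p.primeCompl _).mpr (KFlatLib.flat_localized r.primeCompl B')
  rw [← LC.idealDepth_congr _ (LC.selfLoc r.primeCompl)]
  let I := (J.map (algebraMap B B')).map (algebraMap B' L)
  by_cases hI : I = ⊤
  · rw [LocCoh.idealDepth, if_pos (by
      rw [show (J.map (algebraMap B B')).map (algebraMap B' (Localization.AtPrime r)) = ⊤ from hI, Submodule.top_smul])]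
    exact le_top
  refine LC.le_idealDepth_of_fibre (A := V') I hI 2 N ?_
  refine le_idealDepth_fibMod_closed (J.map (algebraMap B B')) p r rfl B' 2 fun s hJs hsr hsp => ?_
  rw [idealDepth_eq_fibDepth]
  exact_mod_cast two_le_fibDepth_dvr J n hn hS2 hcodim q' hq' _ (hsr.trans hr) (hsp.trans hrV) hJs

variable {F E0 E1 G : Type u} [AddCommGroup F] [Module B F] [Module.Finite B F]
  [AddCommGroup E0] [Module B E0] [Module.Finite B E0] [Module.Projective B E0]
  [AddCommGroup E1] [Module B E1] [Module.Finite B E1] [Module.Projective B E1]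
  [AddCommGroup G] [Module B G] [Module.Finite B G]
  {f : F →ₗ[B] E0} {u : E0 →ₗ[B] E1} {v : E1 →ₗ[B] G}
  (hf : Function.Injective f) (hfu : Function.Exact f u) (huv : Function.Exact u v) (hv : Function.Surjective v)
  (hGU : ∀ q : PrimeSpectrum B, ¬ J ≤ q.asIdeal →
    Module.Free (Localization.AtPrime q.asIdeal) (LocalizedModule q.asIdeal.primeCompl G))
  (hqV : (maximalIdeal V).map (algebraMap V B') ≤ q')
  (hD : LocCoh.HasSk 2 (EGA4.FibLocRing V B' q')
    (EGA4.FibLocMod V B' q' (Module.Dual B' (Module.Dual B' (B' ⊗[B] F)))))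

include hn hS2 hcodim hq' hqV hf hfu huv hv hGU hD in
/-- The cokernel is flat over the discrete valuation ring. -/
theorem flatAt_coker_dvr : FlatCA.FlatAt V q' (B' ⊗[B] G) := by
  classical
  haveI : Algebra.IsPushout A V B B' := Algebra.IsPushout.symm inferInstance
  haveI : Module.Flat V B' :=
    haveI : Module.Flat V (V ⊗[A] B) := inferInstance
    Module.Flat.of_linearEquiv (Algebra.IsPushout.out (R := A) (S := V) (R' := B) (S' := B')).equiv.symm
  have hq'V : q'.comap (algebraMap V B') = maximalIdeal V :=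
    ((maximalIdeal.isMaximal V).eq_of_le (Ideal.IsPrime.comap _).ne_top (Ideal.map_le_iff_le_comap.1 hqV)).symm
  let J' : Ideal B' := J.map (algebraMap B B')
  let u' : B' ⊗[B] E0 →ₗ[B'] B' ⊗[B] E1 := u.baseChange B'
  let K := LinearMap.ker u'
  haveI : Module.Finite B' K := Module.Finite.iff_fg.2 (IsNoetherian.noetherian _)
  have hf' : Function.Injective K.subtype := Subtype.val_injective
  have hfu' : Function.Exact K.subtype u' := LinearMap.exact_subtype_ker_map u'
  have huv' : Function.Exact u' (v.baseChange B') := lTensor_exact B' huv hv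
  have hv' : Function.Surjective (v.baseChange B') := LinearMap.lTensor_surjective B' hv
  have hJ : ∀ Q : PrimeSpectrum B', ¬ J' ≤ Q.asIdeal → ¬ J ≤ (PrimeSpectrum.comap (algebraMap B B') Q).asIdeal :=
    fun Q hQ h => hQ (Ideal.map_le_iff_le_comap.2 h)
  have hFU : ∀ Q : PrimeSpectrum B', ¬ J' ≤ Q.asIdeal →
      Module.Free (Localization.AtPrime Q.asIdeal) (LocalizedModule Q.asIdeal.primeCompl (B' ⊗[B] F)) := fun Q hQ =>
    Module.comap_freeLocus_le (R := B) (M := F) (show PrimeSpectrum.comap (algebraMap B B') Q ∈ Module.freeLocus B F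
      from H1FourTerm.free_of_free hf hfu huv hv _ (hGU _ (hJ Q hQ)))
  haveI : Module.Finite B' (Module.Dual B' (B' ⊗[B] F)) := finite_dual _
  let D := Module.Dual B' (Module.Dual B' (B' ⊗[B] F))
  haveI : Module.Finite B' D := finite_dual _
  let g₀ := toKer B' hfu
  have hu0 : ∀ x, u' (f.baseChange B' x) = 0 := fun x => LinearMap.mem_ker.1 (g₀ x).2
  let φ : D →ₗ[B'] K := ddMap (f.baseChange B') u' hu0
  let η := Module.Dual.eval B' (B' ⊗[B] F)
  have hφη : ∀ x, φ (η x) = g₀ x := fun x => Subtype.ext (ddMap_eval _ _ hu0 x)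
  have hη : ∀ Q : PrimeSpectrum B', ¬ J' ≤ Q.asIdeal →
      (∀ x, η x = 0 → ∃ t ∈ Q.asIdeal.primeCompl, t • x = 0) ∧
      ∀ y, ∃ t ∈ Q.asIdeal.primeCompl, t • y ∈ LinearMap.range η := fun Q hQ => by
    haveI := hFU Q hQ
    haveI : Module.Finite (Localization.AtPrime Q.asIdeal) (LocalizedModule Q.asIdeal.primeCompl (B' ⊗[B] F)) :=
      Module.Finite.of_isLocalizedModule Q.asIdeal.primeCompl (LocalizedModule.mkLinearMap _ _)
    exact KFlatLib.eval_of_isReflexive_localized (B' ⊗[B] F) Q.asIdeal.primeCompl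
  have hg₀ : ∀ Q : PrimeSpectrum B', ¬ J' ≤ Q.asIdeal →
      (∀ x, g₀ x = 0 → ∃ t ∉ Q.asIdeal, t • x = 0) ∧ ∀ y, ∃ t ∉ Q.asIdeal, t • y ∈ LinearMap.range g₀ := fun Q hQ =>
    toKer_off hf hfu huv hv B' Q.asIdeal (hGU _ (hJ Q hQ))
  have hφker : ∀ Q : PrimeSpectrum B', ¬ J' ≤ Q.asIdeal → ∀ d, φ d = 0 → ∃ t ∉ Q.asIdeal, t • d = 0 := by
    intro Q hQ d hd
    obtain ⟨t, ht, y, hy⟩ := (hη Q hQ).2 d
    obtain ⟨t', ht', hy'⟩ := (hg₀ Q hQ).1 y (by rw [← hφη, hy, map_smul, hd, smul_zero])
    exact ⟨t' * t, fun h => (Q.2.mem_or_mem h).elim ht' ht, by rw [mul_smul, ← hy, ← map_smul, hy', map_zero]⟩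
  have hφcoker : ∀ Q : PrimeSpectrum B', ¬ J' ≤ Q.asIdeal → ∀ z, ∃ t ∉ Q.asIdeal, t • z ∈ LinearMap.range φ := by
    intro Q hQ z
    obtain ⟨t, ht, y, hy⟩ := (hg₀ Q hQ).2 z
    exact ⟨t, ht, η y, (hφη y).trans hy⟩
  haveI : Module.Flat V (B' ⊗[B] E0) := Module.Flat.trans V B' _
  haveI : Module.Flat V (B' ⊗[B] E1) := Module.Flat.trans V B' _
  refine flatAt_coker_closed (A := V) (F := ↥K) J' hf' hfu' huv' hv' q' (fun r hJr hrq hrp => ?_) (fun Q hQ => ?_)
    (fun r hJr hrq hrp => ?_)
  · haveI : Module.Projective (Localization.AtPrime r.asIdeal) (LocalizedModule r.asIdeal.primeCompl (B' ⊗[B] E0)) :=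
      Module.projective_of_isLocalizedModule r.asIdeal.primeCompl (LocalizedModule.mkLinearMap _ _)
    rw [idealDepth_eq_fibDepth]
    exact_mod_cast le_fibDepth_projective 2 r.asIdeal (B' ⊗[B] E0)
      (two_le_fibDepth_dvr J n hn hS2 hcodim q' hq' _ hrq (hrp.trans hq'V) hJr)
  · haveI : Module.Free (Localization.AtPrime Q.asIdeal) (LocalizedModule Q.asIdeal.primeCompl (B' ⊗[B] G)) :=
      Module.comap_freeLocus_le (R := B) (M := G)
        (show PrimeSpectrum.comap (algebraMap B B') Q ∈ Module.freeLocus B G from hGU _ (hJ Q hQ))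
    haveI : Module.Flat V (Localization.AtPrime Q.asIdeal) := Module.Flat.trans V B' (Localization.AtPrime Q.asIdeal)
    exact Module.Flat.trans V (Localization.AtPrime Q.asIdeal) _
  -- the fibre depth of the kernel
  have hrV : r.asIdeal.comap (algebraMap V B') = maximalIdeal V := hrp.trans hq'V
  let L := Localization.AtPrime r.asIdeal
  let S := r.asIdeal.primeCompl
  haveI : IsNoetherianRing L := IsLocalization.isNoetherianRing S _ inferInstance
  haveI : Module.Finite L (LocalizedModule S D) :=
    Module.Finite.of_isLocalizedModule S (LocalizedModule.mkLinearMap _ _)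
  haveI : Module.Finite L (LocalizedModule S (B' ⊗[B] E0)) :=
    Module.Finite.of_isLocalizedModule S (LocalizedModule.mkLinearMap _ _)
  haveI : Module.Finite L (LocalizedModule S K) :=
    Module.Finite.of_isLocalizedModule S (LocalizedModule.mkLinearMap _ _)
  haveI : Module.Projective L (LocalizedModule S (B' ⊗[B] E0)) :=
    Module.projective_of_isLocalizedModule S (LocalizedModule.mkLinearMap S _)
  have hL := two_le_idealDepth_dvr J n hn hS2 hcodim q' hq' r.asIdeal hrq hrV
  have hD2 := two_le_idealDepth_dual_localized J' r.asIdeal hL (Module.Dual B' (B' ⊗[B] F))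
  have hL1 : ((1 : ℕ) : ℕ∞) ≤ LocCoh.idealDepth (J'.map (algebraMap B' L)) L := le_trans (Nat.cast_le.2 one_le_two) hL
  have hE1 := H1FourTerm.le_idealDepth_projective _ 1 hL1 (LocalizedModule S (B' ⊗[B] E0))
  rw [Nat.cast_one] at hE1
  letI : AddCommGroup (↥K) := Submodule.addCommGroup (LinearMap.ker u')
  have hK1 : 1 ≤ LocCoh.idealDepth (J'.map (algebraMap B' L)) (LocalizedModule S K) :=
    KFlatLib.le_idealDepth_of_injective _ (LocalizedModule.map S K.subtype)
      (LocalizedModule.map_injective _ _ hf') hE1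
  have hbij := bijective_localized_of_off J' φ r.asIdeal (fun Q h _ => hφker Q h) (fun Q h _ => hφcoker Q h) hD2 hK1
  let eφ := LinearEquiv.ofBijective _ hbij
  let I : Ideal L := (r.asIdeal.comap (algebraMap V B')).map (algebraMap V L)
  let eI : EGA4.FibLocMod V B' r.asIdeal D ≃ₗ[L] EGA4.FibLocMod V B' r.asIdeal K :=
    Submodule.Quotient.equiv _ _ eφ (by
      rw [Submodule.map_smul'', Submodule.map_top, LinearMap.range_eq_top.mpr eφ.surjective])
  rw [idealDepth_eq_fibDepth, FlatLoc6.fibDepth, ← FlatLoc6.depth_congr' eI]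
  by_cases hne : Subsingleton (EGA4.FibLocMod V B' r.asIdeal D)
  · rw [LocCoh.depth, LocCoh.idealDepth, if_pos (Subsingleton.elim _ _)]
    exact le_top
  have h := (hasSk_fib_iff 2 q' D).1 hD r hrq
  obtain ⟨e⟩ := exists_red_localized (A := V) q' D r.asIdeal hrp
  rw [SkLE, Module.supportDim_eq_of_equiv e, FlatLoc6.depth_congr' e, min_eq_left, ← WithBot.coe_natCast,
    WithBot.coe_le_coe] at h
  · exact_mod_cast h
  -- the support of the fibre has dimension at least two
  haveI : Nontrivial (LocalizedModule S D) := by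
    rw [← not_subsingleton_iff_nontrivial]
    exact fun _ => hne inferInstance
  have hdim : ((LocCoh.depth L L : ℕ∞) : WithBot ℕ∞) ≤ Module.supportDim L (LocalizedModule S D) := by
    refine depth_le_supportDim_of_free_off J' D r.asIdeal (fun Q hQ _ => ?_) (le_trans one_le_two hD2)
    haveI := hFU Q hQ
    have hb : Function.Bijective (LocalizedModule.map Q.asIdeal.primeCompl η) := by
      refine ⟨?_, fun z => ?_⟩
      · rw [injective_iff_map_eq_zero]
        intro z hz
        induction z using LocalizedModule.induction_on with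
        | h x s =>
          rw [LocalizedModule.map_mk] at hz
          obtain ⟨t₀, ht₀⟩ := LocalizedModule.mk_eq.1 (hz.trans (LocalizedModule.zero_mk s).symm)
          obtain ⟨t, ht, htx⟩ := (hη Q hQ).1 (((t₀ : B') * (s : B')) • x) (by
            rw [map_smul, mul_smul]
            simpa [Submonoid.smul_def] using ht₀)
          rw [← LocalizedModule.zero_mk s, LocalizedModule.mk_eq]
          refine ⟨⟨t * (t₀ : B'), mul_mem ht t₀.2⟩, ?_⟩
          simp only [smul_zero, Submonoid.smul_def]
          rw [mul_smul, ← htx, mul_smul]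
      · induction z using LocalizedModule.induction_on with
        | h y s =>
          obtain ⟨t, ht, x, hx⟩ := (hη Q hQ).2 y
          refine ⟨LocalizedModule.mk x (⟨t, ht⟩ * s), ?_⟩
          rw [LocalizedModule.map_mk, hx]
          exact LocalizedModule.mk_cancel_common_left ⟨t, ht⟩ s y
    exact Module.Free.of_equiv (LinearEquiv.ofBijective _ hb)
  -- the uniformizer
  obtain ⟨ϖ, hϖ⟩ := IsDiscreteValuationRing.exists_irreducible V
  let c : L := algebraMap B' L (algebraMap V B' ϖ)
  have hc : c ∈ maximalIdeal L := by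
    rw [← Localization.AtPrime.map_eq_maximalIdeal]
    refine Ideal.mem_map_of_mem _ (hrV.ge ?_)
    rw [hϖ.maximalIdeal_eq]
    exact Ideal.mem_span_singleton_self ϖ
  have hIc : I = Ideal.span {c} := by
    show Ideal.map _ _ = _
    rw [hrV, hϖ.maximalIdeal_eq, Ideal.map_span, Set.image_singleton, IsScalarTower.algebraMap_apply V B' L]
  have hcB : IsSMulRegular B' (algebraMap V B' ϖ) := fun x y h => by
    have h' : ϖ • x = ϖ • y := by rw [Algebra.smul_def, Algebra.smul_def]; exact h
    exact (Module.Flat.isSMulRegular_of_isRegular (M := B') (IsRegular.of_ne_zero hϖ.ne_zero)) h'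
  have hcD : IsSMulRegular (LocalizedModule S D) c := by
    have hD' : ∀ d : D, algebraMap V B' ϖ • d = 0 → d = 0 := fun d hd =>
      LinearMap.ext fun ξ => hcB (by
        show algebraMap V B' ϖ • d ξ = algebraMap V B' ϖ • (0 : B')
        rw [smul_zero]
        exact LinearMap.congr_fun hd ξ)
    suffices h0 : ∀ z : LocalizedModule S D, c • z = 0 → z = 0 from fun x y hxy =>
      sub_eq_zero.1 (h0 _ (by rw [smul_sub]; exact sub_eq_zero.2 hxy))
    intro z hz
    induction z using LocalizedModule.induction_on with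
    | h x s =>
      rw [algebraMap_smul, LocalizedModule.smul'_mk] at hz
      obtain ⟨t₀, ht₀⟩ := LocalizedModule.mk_eq.1 (hz.trans (LocalizedModule.zero_mk s).symm)
      rw [← LocalizedModule.zero_mk s, LocalizedModule.mk_eq]
      refine ⟨t₀, ?_⟩
      simp only [smul_zero, Submonoid.smul_def] at ht₀ ⊢
      refine hD' _ ?_
      rwa [smul_comm, smul_comm (algebraMap V B' ϖ) (s : B') x]
  have hfib : EGA4.FibLocMod V B' r.asIdeal D ≃ₗ[L] QuotSMulTop c (LocalizedModule S D) :=
    Submodule.quotEquivOfEq _ _ (by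
      show I • (⊤ : Submodule L (LocalizedModule S D)) = c • ⊤
      rw [hIc, Submodule.ideal_span_singleton_smul])
  rw [Module.supportDim_eq_of_equiv hfib]
  have h3 : ((3 : ℕ) : ℕ∞) ≤ LocCoh.depth L L := by
    rw [(FlatLoc6.formulas_self (A := V) _ r.asIdeal rfl).1]
    exact le_trans (by norm_num) (add_le_add (one_le_depth_dvr V _ hrV)
      (two_le_fibDepth_dvr J n hn hS2 hcodim q' hq' _ hrq hrV hJr))
  have h4 := (WithBot.coe_le_coe.2 h3).trans hdim
  rw [← Module.supportDim_quotSMulTop_succ_eq_supportDim hcD hc] at h4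
  revert h4
  generalize Module.supportDim L (QuotSMulTop c (LocalizedModule S D)) = a
  intro h4
  induction a with
  | bot => exact absurd h4 (by simp)
  | coe a =>
    induction a using ENat.recTopCoe with
    | top => exact le_top
    | coe a =>
      have h5 : ((3 : ℕ) : ℕ∞) ≤ (a : ℕ∞) + 1 := WithBot.coe_le_coe.1 (by exact_mod_cast h4)
      rw [← WithBot.coe_natCast, WithBot.coe_le_coe]
      norm_cast at h5 ⊢
      omega

end Groth.Agent.H1Inf
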