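import Groth.Agent.H1Inf.Test
import Groth.Agent.LocalCrit.Flatness
import Mathlib.RingTheory.TensorProduct.Quotient
import Mathlib.RingTheory.Localization.BaseChange

/-!
# The infinitesimal criterion
-/

set_option autoImplicit false
set_option linter.style.haveILetI false
set_option linter.unusedSectionVars false
set_option maxHeartbeats 800000

universe u

open TensorProduct IsLocalRing

namespace Groth.Agent.H1Inf

variable {A B : Type u} [CommRing A] [CommRing B] [IsNoetherianRing A] [IsNoetherianRing B] [Algebra A B]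

section Descent

attribute [local instance] Algebra.TensorProduct.rightAlgebra

/-- Flatness over a test ring is flatness of the reduction of the localization. -/
theorem flat_reduction {A' : Type u} [CommRing A'] [Algebra A A'] (hπ : Function.Surjective (algebraMap A A'))
    (n : Ideal B) [n.IsPrime] (G : Type u) [AddCommGroup G] [Module B G] [Module A G] [IsScalarTower A B G]
    (q' : Ideal (B ⊗[A] A')) [q'.IsPrime] (hq' : q'.comap (algebraMap B (B ⊗[A] A')) = n)
    (h : FlatCA.FlatAt A' q' ((B ⊗[A] A') ⊗[B] G)) :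
    Module.Flat A' (A' ⊗[A] LocalizedModule n.primeCompl G) := by
  subst hq'
  let C' := B ⊗[A] A'
  let n := q'.comap (algebraMap B C')
  have hπC : Function.Surjective (algebraMap B C') := fun z => by
    induction z using TensorProduct.induction_on with
    | zero => exact ⟨0, map_zero _⟩
    | tmul b x =>
      obtain ⟨a, rfl⟩ := hπ x
      exact ⟨a • b, by rw [Algebra.TensorProduct.algebraMap_apply, Algebra.algebraMap_self, RingHom.id_apply,
        TensorProduct.smul_tmul, ← Algebra.algebraMap_eq_smul_one]⟩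
    | add x y hx hy =>
      obtain ⟨a, rfl⟩ := hx
      obtain ⟨b, rfl⟩ := hy
      exact ⟨a + b, map_add _ _ _⟩
  haveI := LC.isLocalizedModule_comap (M := C' ⊗[B] G) hπC q'
  let e0 : C' ⊗[B] G ≃ₗ[B] G ⊗[A] A' :=
    (TensorProduct.comm B C' G).trans (AlgebraTensorModule.cancelBaseChange A B B G A')
  let g : C' ⊗[B] G →ₗ[B] LocalizedModule n.primeCompl G ⊗[A] A' :=
    (AlgebraTensorModule.rTensor A A' (LocalizedModule.mkLinearMap n.primeCompl G)) ∘ₗ e0.toLinearMap
  haveI : IsLocalizedModule n.primeCompl g := IsLocalizedModule.of_linearEquiv_right _ _ _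
  let e1 : LocalizedModule q'.primeCompl (C' ⊗[B] G) ≃ₗ[B] LocalizedModule n.primeCompl G ⊗[A] A' :=
    (IsLocalizedModule.iso n.primeCompl
      ((LocalizedModule.mkLinearMap q'.primeCompl (C' ⊗[B] G)).restrictScalars B)).symm.trans
      (IsLocalizedModule.iso n.primeCompl g)
  let e2 : LocalizedModule q'.primeCompl (C' ⊗[B] G) ≃ₗ[A] A' ⊗[A] LocalizedModule n.primeCompl G :=
    (e1.restrictScalars A).trans (TensorProduct.comm A _ A')
  haveI : Module.Flat A' (LocalizedModule q'.primeCompl (C' ⊗[B] G)) := h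
  exact Module.Flat.of_linearEquiv (LinearEquiv.extendScalarsOfSurjective hπ e2).symm

/-- A prime over the closed point is the contraction of a prime of each reduction. -/
theorem exists_prime_reduction [IsLocalRing A] (n : Ideal B) [hnp : n.IsPrime]
    (hn : (maximalIdeal A).map (algebraMap A B) ≤ n) (I : Ideal A) (hI : I ≤ maximalIdeal A) :
    ∃ q' : PrimeSpectrum (B ⊗[A] (A ⧸ I)), q'.asIdeal.comap (algebraMap B (B ⊗[A] (A ⧸ I))) = n := by
  let e := Algebra.TensorProduct.quotIdealMapEquivTensorQuot B I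
  have hP : I.map (algebraMap A B) ≤ n := (Ideal.map_mono hI).trans hn
  haveI : (n.map (Ideal.Quotient.mk (I.map (algebraMap A B)))).IsPrime :=
    Ideal.map_isPrime_of_surjective Ideal.Quotient.mk_surjective (by rwa [Ideal.mk_ker])
  refine ⟨⟨(n.map (Ideal.Quotient.mk (I.map (algebraMap A B)))).comap e.symm, inferInstance⟩, ?_⟩
  ext b
  show e.symm (algebraMap B _ b) ∈ n.map (Ideal.Quotient.mk (I.map (algebraMap A B))) ↔ b ∈ n
  rw [AlgEquiv.commutes, Ideal.Quotient.algebraMap_eq, ← Ideal.mem_comap,
    Ideal.comap_map_of_surjective _ Ideal.Quotient.mk_surjective, ← RingHom.ker_eq_comap_bot, Ideal.mk_ker,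
    sup_eq_left.2 hP]

end Descent

/-- Flatness at a prime passes to the primes below. -/
theorem flatAt_of_le {s n : Ideal B} [s.IsPrime] [n.IsPrime] (h : s ≤ n) (G : Type u) [AddCommGroup G] [Module B G]
    [Module A G] [IsScalarTower A B G] (hG : FlatCA.FlatAt A n G) : FlatCA.FlatAt A s G := by
  let L := Localization.AtPrime n
  obtain ⟨Q, hQ⟩ := H1AssDim.exists_comap_eq ⟨n, ‹_›⟩ L (t := ⟨s, ‹_›⟩) h
  have hQs : Q.asIdeal.comap (algebraMap B L) = s := congrArg PrimeSpectrum.asIdeal hQ
  subst hQs
  haveI : IsScalarTower A L (LocalizedModule n.primeCompl G) := IsScalarTower.of_algebraMap_smul fun a x => by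
    rw [IsScalarTower.algebraMap_apply A B L, algebraMap_smul, algebraMap_smul]
  haveI : Module.Flat A (LocalizedModule n.primeCompl G) := hG
  haveI : Module.Flat A (LocalizedModule Q.asIdeal.primeCompl (LocalizedModule n.primeCompl G)) :=
    KFlatLib.flat_localized Q.asIdeal.primeCompl (LocalizedModule n.primeCompl G)
  exact Module.Flat.of_linearEquiv
    ((IsLocalizedModule.iso (Q.asIdeal.comap (algebraMap B L)).primeCompl
      (Alg6.locLocMap n.primeCompl G Q.asIdeal)).restrictScalars A)

variable [IsLocalRing A]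

/-- Flatness and `(S₂)` of the fibre from flatness of the cokernel. -/
theorem relS2_of_flatAt (n : Ideal B) [n.IsPrime] (hn : (maximalIdeal A).map (algebraMap A B) ≤ n)
    (hS2 : LocCoh.HasSk 2 (EGA4.FibLocRing A B n) (EGA4.FibLocRing A B n)) (J : Ideal B)
    (hcodim : ∀ q : PrimeSpectrum B, J ≤ q.asIdeal → (2 : WithBot ℕ∞) ≤ ringKrullDim (EGA4.FibLocRing A B q.asIdeal))
    {F E0 E1 G : Type u}
    [AddCommGroup F] [Module B F] [Module A F] [IsScalarTower A B F] [Module.Finite B F]
    [AddCommGroup E0] [Module B E0] [Module A E0] [IsScalarTower A B E0] [Module.Finite B E0]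
    [Module.Projective B E0] [Module.Flat A E0]
    [AddCommGroup E1] [Module B E1] [Module A E1] [IsScalarTower A B E1] [Module.Finite B E1]
    [Module.Projective B E1] [Module.Flat A E1]
    [AddCommGroup G] [Module B G] [Module A G] [IsScalarTower A B G] [Module.Finite B G]
    {f : F →ₗ[B] E0} {u : E0 →ₗ[B] E1} {v : E1 →ₗ[B] G}
    (hf : Function.Injective f) (hfu : Function.Exact f u) (huv : Function.Exact u v) (hv : Function.Surjective v)
    (hFU : ∀ q : PrimeSpectrum B, ¬ J ≤ q.asIdeal →
      Module.Free (Localization.AtPrime q.asIdeal) (LocalizedModule q.asIdeal.primeCompl F))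
    (hG : FlatCA.FlatAt A n G) :
    FlatCA.FlatAt A n F ∧ LocCoh.HasSk 2 (EGA4.FibLocRing A B n) (EGA4.FibLocMod A B n F) := by
  have hnm : n.comap (algebraMap A B) = maximalIdeal A :=
    ((maximalIdeal.isMaximal A).eq_of_le (Ideal.IsPrime.comap _).ne_top (Ideal.map_le_iff_le_comap.1 hn)).symm
  refine ⟨((KFlatLib.fourTerm_atPrime (A := A) (⊤ : Ideal B) hf hfu huv hv n
    (fun q h _ => absurd (top_le_iff.1 h) q.2.ne_top) (fun q h _ => absurd (top_le_iff.1 h) q.2.ne_top)).1 hG).1,
    (hasSk_fib_iff 2 n F).2 fun s hs => ?_⟩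
  by_cases hsm : (maximalIdeal A).map (algebraMap A B) ≤ s.asIdeal
  swap
  · obtain ⟨a, ha, has⟩ := SetLike.not_le_iff_exists.1 hsm
    haveI : Subsingleton (LocalizedModule s.asIdeal.primeCompl (Red A n F)) :=
      LocalizedModule.subsingleton_iff.2 fun z => by
        obtain ⟨z, rfl⟩ := Submodule.Quotient.mk_surjective _ z
        refine ⟨a, has, ?_⟩
        rw [← Submodule.Quotient.mk_smul, Submodule.Quotient.mk_eq_zero, hnm]
        exact Submodule.smul_mem_smul ha trivial
    exact skLE_of_subsingleton 2 _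
  have hsn : s.asIdeal.comap (algebraMap A B) = n.comap (algebraMap A B) := by
    rw [hnm]
    exact ((maximalIdeal.isMaximal A).eq_of_le (Ideal.IsPrime.comap _).ne_top (Ideal.map_le_iff_le_comap.1 hsm)).symm
  obtain ⟨e⟩ := exists_red_localized (A := A) n F s.asIdeal hsn
  rw [SkLE, Module.supportDim_eq_of_equiv e, FlatLoc6.depth_congr' e]
  show min _ (FlatLoc6.fibDim A s.asIdeal F) ≤ ((FlatLoc6.fibDepth A s.asIdeal F : ℕ∞) : WithBot ℕ∞)
  by_cases hJ : J ≤ s.asIdeal
  · refine (min_le_left _ _).trans ?_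
    rw [← WithBot.coe_natCast, WithBot.coe_le_coe, ← idealDepth_eq_fibDepth]
    have hproj : ∀ (E : Type u) [AddCommGroup E] [Module B E] [Module.Finite B E] [Module.Projective B E],
        ∀ q : PrimeSpectrum B, s.asIdeal ≤ q.asIdeal → q.asIdeal ≤ s.asIdeal →
        2 ≤ LocCoh.idealDepth (q.asIdeal.map (algebraMap B (EGA4.FibLocRing A B q.asIdeal)))
          (EGA4.FibLocMod A B q.asIdeal E) := by
      intro E _ _ _ _ q hsq hqs
      obtain rfl : q = s := PrimeSpectrum.ext (le_antisymm hqs hsq)
      haveI : Module.Projective (Localization.AtPrime q.asIdeal) (LocalizedModule q.asIdeal.primeCompl E) :=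
        Module.projective_of_isLocalizedModule q.asIdeal.primeCompl (LocalizedModule.mkLinearMap _ E)
      rw [idealDepth_eq_fibDepth]
      exact_mod_cast le_fibDepth_projective 2 q.asIdeal E (two_le_fibDepth_of_hasSk n hS2 J hcodim _ hs hsn hJ)
    exact_mod_cast ((KFlatLib.fourTerm_atPrime (A := A) s.asIdeal hf hfu huv hv s.asIdeal (hproj E0)
      (fun q a b => le_trans one_le_two (hproj E1 q a b))).1 (flatAt_of_le hs G hG)).2 rfl
  · haveI := hFU s hJ
    refine le_trans (le_trans (min_le_min le_rfl (fibDim_le_ringKrullDim s.asIdeal F))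
      (fib_le_of_hasSk 2 n hS2 s.asIdeal hs hsn)) (WithBot.coe_le_coe.2 ?_)
    exact ENat.forall_natCast_le_iff_le.1 fun k hk => le_fibDepth_projective k s.asIdeal F hk

end Groth.Agent.H1Inf
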