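import Groth.Agent.H1FourTerm.Basic
import Mathlib.Algebra.Module.FinitePresentation
import Mathlib.RingTheory.LocalRing.Module

/-!
# Splitting a four term sequence near a point where the last term is free
-/

set_option autoImplicit false
set_option linter.style.haveILetI false
set_option linter.unusedSectionVars false

universe u

open TensorProduct IsLocalRing

namespace Groth.Agent.H1Inf

variable {B : Type u} [CommRing B] [IsNoetherianRing B]
  {F E0 E1 G : Type u} [AddCommGroup F] [Module B F] [Module.Finite B F]
  [AddCommGroup E0] [Module B E0] [Module.Finite B E0] [Module.Projective B E0]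
  [AddCommGroup E1] [Module B E1] [Module.Finite B E1] [Module.Projective B E1]
  [AddCommGroup G] [Module B G] [Module.Finite B G]
  {f : F →ₗ[B] E0} {u : E0 →ₗ[B] E1} {v : E1 →ₗ[B] G}
  (hf : Function.Injective f) (hfu : Function.Exact f u) (huv : Function.Exact u v) (hv : Function.Surjective v)

include hf hfu huv hv in
/-- A homotopy up to an element outside the prime. -/
theorem exists_homotopy (s : Ideal B) [s.IsPrime]
    (hG : Module.Free (Localization.AtPrime s) (LocalizedModule s.primeCompl G)) :
    ∃ c ∉ s, ∃ (ρ : E0 →ₗ[B] F) (τ : E1 →ₗ[B] E0), f ∘ₗ ρ + τ ∘ₗ u = (c : B) • LinearMap.id := by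
  let S := s.primeCompl
  let L := Localization.AtPrime s
  haveI : IsNoetherianRing L := IsLocalization.isNoetherianRing S _ inferInstance
  haveI : Module.FinitePresentation B E0 := Module.finitePresentation_of_finite B E0
  haveI : Module.FinitePresentation B E1 := Module.finitePresentation_of_finite B E1
  let f' := LocalizedModule.map S f
  let u' := LocalizedModule.map S u
  let v' := LocalizedModule.map S v
  have hf' : Function.Injective f' := LocalizedModule.map_injective _ f hf
  have hfu' : Function.Exact f' u' := LocalizedModule.map_exact _ f u hfu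
  have huv' : Function.Exact u' v' := LocalizedModule.map_exact _ u v huv
  have hv' : Function.Surjective v' := LocalizedModule.map_surjective _ v hv
  haveI : Module.Projective L (LocalizedModule S E0) :=
    Module.projective_of_isLocalizedModule S (LocalizedModule.mkLinearMap S E0)
  haveI : Module.Projective L (LocalizedModule S E1) :=
    Module.projective_of_isLocalizedModule S (LocalizedModule.mkLinearMap S E1)
  obtain ⟨σ, hσ⟩ := Module.projective_lifting_property v' LinearMap.id hv'
  let pr : LocalizedModule S E1 →ₗ[L] LinearMap.range u' := LinearMap.codRestrict _ (LinearMap.id - σ ∘ₗ v') fun z =>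
    (huv' _).1 (by
      show v' (z - σ (v' z)) = 0
      rw [map_sub, show v' (σ (v' z)) = v' z from LinearMap.congr_fun hσ (v' z), sub_self])
  have hpr : ∀ z, pr (u' z) = u'.rangeRestrict z := fun z => Subtype.ext (by
    show u' z - σ (v' (u' z)) = u' z
    rw [(huv' _).2 ⟨z, rfl⟩, map_zero, sub_zero])
  haveI : Module.Flat L (LinearMap.range u') := KFlatLib.flat_of_flat_quotient
    (f := (LinearMap.range u').subtype) (g := v') Subtype.val_injective
    (fun z => (huv' z).trans ⟨fun ⟨w, hw⟩ => ⟨⟨z, w, hw⟩, rfl⟩, fun ⟨w, hw⟩ => hw ▸ w.2⟩) hv'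
  haveI : Module.Finite L (LinearMap.range u') := Module.Finite.range u'
  haveI : Module.Free L (LinearMap.range u') := Module.free_of_flat_of_isLocalRing
  obtain ⟨θ, hθ⟩ := Module.projective_lifting_property u'.rangeRestrict LinearMap.id u'.surjective_rangeRestrict
  let T : LocalizedModule S E1 →ₗ[L] LocalizedModule S E0 := θ ∘ₗ pr
  have hker : ∀ z, u' (z - T (u' z)) = 0 := fun z => by
    have := congrArg Subtype.val (LinearMap.congr_fun hθ (u'.rangeRestrict z))
    rw [map_sub, show T (u' z) = θ (u'.rangeRestrict z) by show θ (pr (u' z)) = _; rw [hpr]]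
    exact sub_eq_zero.2 this.symm
  let ef := LinearEquiv.ofInjective f' hf'
  let R0 : LocalizedModule S E0 →ₗ[L] LocalizedModule S F :=
    ef.symm.toLinearMap ∘ₗ LinearMap.codRestrict (LinearMap.range f') (LinearMap.id - T ∘ₗ u')
      fun z => (hfu' _).1 (hker z)
  have hR0 : ∀ z, f' (R0 z) + T (u' z) = z := fun z => by
    have : f' (R0 z) = z - T (u' z) := by
      show (ef (ef.symm _) : LocalizedModule S E0) = _
      rw [LinearEquiv.apply_symm_apply]
      rfl
    rw [this, sub_add_cancel]
  let mk0 := LocalizedModule.mkLinearMap S E0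
  obtain ⟨τ0, a, ha⟩ := Module.FinitePresentation.exists_lift_of_isLocalizedModule S mk0
    ((T.restrictScalars B) ∘ₗ LocalizedModule.mkLinearMap S E1)
  obtain ⟨ρ0, b, hb⟩ := Module.FinitePresentation.exists_lift_of_isLocalizedModule S
    (LocalizedModule.mkLinearMap S F) ((R0.restrictScalars B) ∘ₗ mk0)
  have hcomp : mk0 ∘ₗ ((a : B) • (f ∘ₗ ρ0) + (b : B) • (τ0 ∘ₗ u)) =
      mk0 ∘ₗ (((a : B) * b) • LinearMap.id) := by
    refine LinearMap.ext fun x => ?_
    show mk0 ((a : B) • f (ρ0 x) + (b : B) • τ0 (u x)) = mk0 (((a : B) * b) • x)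
    have h1 : LocalizedModule.mkLinearMap S F (ρ0 x) = (b : B) • R0 (mk0 x) := LinearMap.congr_fun hb x
    have h2 : mk0 (τ0 (u x)) = (a : B) • T (LocalizedModule.mkLinearMap S E1 (u x)) := LinearMap.congr_fun ha (u x)
    have h3 : f' (LocalizedModule.mkLinearMap S F (ρ0 x)) = mk0 (f (ρ0 x)) := LocalizedModule.map_mk S f (ρ0 x) 1
    have h4 : u' (mk0 x) = LocalizedModule.mkLinearMap S E1 (u x) := LocalizedModule.map_mk S u x 1
    rw [map_add, map_smul, map_smul, map_smul, ← h3, h1, h2, ← h4, ← algebraMap_smul L (b : B) (R0 (mk0 x)),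
      map_smul, algebraMap_smul, smul_smul, smul_smul, mul_comm (b : B) (a : B), ← smul_add, hR0]
  obtain ⟨w, hw⟩ := Module.Finite.exists_smul_of_comp_eq_of_isLocalizedModule S mk0 _ _ hcomp
  refine ⟨(w : B) * ((a : B) * b), mul_mem w.2 (mul_mem a.2 b.2), ((w : B) * a) • ρ0, ((w : B) * b) • τ0,
    LinearMap.ext fun x => ?_⟩
  have h := LinearMap.congr_fun hw x
  show f (((w : B) * a) • ρ0 x) + ((w : B) * b) • τ0 (u x) = ((w : B) * ((a : B) * b)) • x
  rw [map_smul, mul_smul, mul_smul, mul_smul, ← smul_add]
  exact h

variable (B' : Type u) [CommRing B'] [Algebra B B']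

/-- The comparison of the base change of the kernel with the kernel of the base change. -/
noncomputable def toKer (hfu : Function.Exact f u) : B' ⊗[B] F →ₗ[B'] LinearMap.ker (u.baseChange B') :=
  LinearMap.codRestrict _ (f.baseChange B') fun z => by
    rw [LinearMap.mem_ker, ← LinearMap.comp_apply, ← LinearMap.baseChange_comp, hfu.linearMap_comp_eq_zero,
      LinearMap.baseChange_zero, LinearMap.zero_apply]

theorem toKer_coe (hfu : Function.Exact f u) (z : B' ⊗[B] F) :
    (toKer B' hfu z : B' ⊗[B] E0) = f.baseChange B' z := rfl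

include hf huv hv in
/-- The comparison is bijective up to scalars where the cokernel is free. -/
theorem toKer_off (Q : Ideal B') [Q.IsPrime]
    (hG : Module.Free (Localization.AtPrime (Q.comap (algebraMap B B')))
      (LocalizedModule (Q.comap (algebraMap B B')).primeCompl G)) :
    (∀ x, toKer B' hfu x = 0 → ∃ t ∉ Q, t • x = 0) ∧ ∀ y, ∃ t ∉ Q, t • y ∈ LinearMap.range (toKer B' hfu) := by
  obtain ⟨c, hc, ρ, τ, h⟩ := exists_homotopy hf hfu huv hv (Q.comap (algebraMap B B')) hG
  have hρf : ρ ∘ₗ f = c • LinearMap.id := LinearMap.ext fun z => hf (by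
    have h1 := LinearMap.congr_fun h (f z)
    simp only [LinearMap.add_apply, LinearMap.comp_apply, LinearMap.smul_apply, LinearMap.id_apply,
      (hfu (f z)).2 ⟨z, rfl⟩, map_zero, add_zero] at h1
    simp only [LinearMap.comp_apply, LinearMap.smul_apply, LinearMap.id_apply, map_smul]
    exact h1)
  have h' : ∀ y, f.baseChange B' (ρ.baseChange B' y) + τ.baseChange B' (u.baseChange B' y) =
      algebraMap B B' c • y := fun y => by
    have := LinearMap.congr_fun (congrArg (LinearMap.baseChange B') h) y
    rw [LinearMap.baseChange_add, LinearMap.baseChange_comp, LinearMap.baseChange_comp, LinearMap.baseChange_smul,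
      LinearMap.baseChange_id] at this
    rw [algebraMap_smul]
    exact this
  refine ⟨fun x hx => ⟨algebraMap B B' c, hc, ?_⟩, fun y => ⟨algebraMap B B' c, hc, ρ.baseChange B' y, ?_⟩⟩
  · have h1 : f.baseChange B' x = 0 := congrArg Subtype.val hx
    have h2 := LinearMap.congr_fun (congrArg (LinearMap.baseChange B') hρf) x
    rw [LinearMap.baseChange_comp, LinearMap.baseChange_smul, LinearMap.baseChange_id, LinearMap.comp_apply, h1,
      map_zero] at h2
    rw [algebraMap_smul]
    exact h2.symm
  · refine Subtype.ext ?_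
    have h1 := h' (y : B' ⊗[B] E0)
    rw [LinearMap.mem_ker.1 y.2, map_zero, add_zero] at h1
    exact h1

end Groth.Agent.H1Inf
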