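import Groth.Agent.H1Inf.Sk
import Groth.Agent.H1Inf.Split
import Groth.Agent.H1Inf.DD
import Groth.Agent.H1RectCons.Transfer
import Groth.Agent.KFlatLib.Ring.BaseChangeFibre
import Groth.Agent.FlatLoc6.FiberSelf

/-!
# Depths of the fibre rings below a point
-/

set_option autoImplicit false
set_option linter.style.haveILetI false
set_option linter.unusedSectionVars false

universe u

open TensorProduct IsLocalRing

namespace Groth.Agent.H1Inf

variable {A B : Type u} [CommRing A] [CommRing B] [IsNoetherianRing A] [IsNoetherianRing B] [Algebra A B]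

/-- The reduction of a finite projective module is finite projective over the fibre ring, so as deep. -/
theorem le_fibDepth_projective (k : ℕ) (r : Ideal B) [r.IsPrime] (E : Type u) [AddCommGroup E] [Module B E]
    [Module.Finite B E] [Module.Projective (Localization.AtPrime r) (LocalizedModule r.primeCompl E)]
    (h : (k : ℕ∞) ≤ FlatLoc6.fibDepth A r B) : (k : ℕ∞) ≤ FlatLoc6.fibDepth A r E := by
  haveI := FlatLoc6.isLocalRing_fibLocRing (A := A) r
  let L := Localization.AtPrime r
  let O := EGA4.FibLocRing A B r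
  let I : Ideal L := (r.comap (algebraMap A B)).map (algebraMap A L)
  haveI : IsNoetherianRing L := IsLocalization.isNoetherianRing r.primeCompl _ inferInstance
  haveI : Module.Finite L (LocalizedModule r.primeCompl E) :=
    Module.Finite.of_isLocalizedModule r.primeCompl (LocalizedModule.mkLinearMap _ _)
  let e : O ⊗[L] LocalizedModule r.primeCompl E ≃ₗ[O] EGA4.FibLocMod A B r E :=
    LinearEquiv.extendScalarsOfSurjective Ideal.Quotient.mk_surjective
      (TensorProduct.quotTensorEquivQuotSMul (LocalizedModule r.primeCompl E) I)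
  haveI : Module.Finite O (EGA4.FibLocMod A B r E) := Module.Finite.equiv e
  haveI : Module.Projective O (EGA4.FibLocMod A B r E) := Module.Projective.of_equiv e
  rw [FlatLoc6.fibDepth_self] at h
  rw [← FlatLoc6.fibDepth_eq]
  exact H1FourTerm.le_idealDepth_projective _ k h _

theorem fibDim_le_ringKrullDim (r : Ideal B) [r.IsPrime] (E : Type u) [AddCommGroup E] [Module B E] :
    FlatLoc6.fibDim A r E ≤ FlatLoc6.fibDim A r B := by
  rw [FlatLoc6.fibDim_self, ← FlatLoc6.fibDim_eq]
  exact Module.supportDim_le_ringKrullDim _ _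

theorem idealDepth_eq_fibDepth (r : Ideal B) [r.IsPrime] (E : Type u) [AddCommGroup E] [Module B E] :
    LocCoh.idealDepth (r.map (algebraMap B (EGA4.FibLocRing A B r))) (EGA4.FibLocMod A B r E) =
      FlatLoc6.fibDepth A r E := by
  haveI := FlatLoc6.isLocalRing_fibLocRing (A := A) r
  rw [KFlatLib.map_eq_maximalIdeal_fibLocRing r, ← FlatLoc6.fibDepth_eq]
  rfl

/-- Depth at least two of the fibre ring below a point satisfying `(S₂)`. -/
theorem two_le_fibDepth_of_hasSk (n : Ideal B) [n.IsPrime]
    (hS2 : LocCoh.HasSk 2 (EGA4.FibLocRing A B n) (EGA4.FibLocRing A B n)) (J : Ideal B)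
    (hcodim : ∀ q : PrimeSpectrum B, J ≤ q.asIdeal → (2 : WithBot ℕ∞) ≤ ringKrullDim (EGA4.FibLocRing A B q.asIdeal))
    (s : Ideal B) [s.IsPrime] (hs : s ≤ n) (hp : s.comap (algebraMap A B) = n.comap (algebraMap A B)) (hJ : J ≤ s) :
    ((2 : ℕ) : ℕ∞) ≤ FlatLoc6.fibDepth A s B := by
  have h := fib_le_of_hasSk 2 n hS2 s hs hp
  rw [FlatLoc6.fibDim_self, min_eq_left (by exact_mod_cast hcodim ⟨s, ‹_›⟩ hJ), ← WithBot.coe_natCast,
    WithBot.coe_le_coe] at h
  exact h

variable {A' B' : Type u} [CommRing A'] [CommRing B'] [IsNoetherianRing A'] [IsNoetherianRing B']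
  [Algebra A A'] [Algebra B B'] [Algebra A' B'] [Algebra A B'] [IsScalarTower A B B'] [IsScalarTower A A' B']
  [Algebra.IsPushout A B A' B']

/-- Fibre rings do not change along a surjective base change. -/
theorem fibDepth_baseChange_self (hπ : Function.Surjective (algebraMap A A')) (r : Ideal B') [r.IsPrime] :
    FlatLoc6.fibDepth A' r B' = FlatLoc6.fibDepth A (r.comap (algebraMap B B')) B := by
  haveI : Algebra.IsPushout A A' B B' := Algebra.IsPushout.symm inferInstance
  have hdiv : H1RectCons.IsDiv A A' := fun x => by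
    obtain ⟨a, ha⟩ := hπ x
    exact ⟨a, 1, by simp, by rw [map_one, one_mul, ha]⟩
  obtain ⟨e⟩ := H1RectCons.exists_fibLocRing_equiv (A := A) (A' := A') (B := B) hdiv r
  haveI := FlatLoc6.isLocalRing_fibLocRing (A := A) (r.comap (algebraMap B B'))
  haveI := FlatLoc6.isLocalRing_fibLocRing (A := A') r
  rw [FlatLoc6.fibDepth_self, FlatLoc6.fibDepth_self]
  exact (Alg6.depth_eq_of_semilinear e.toRingEquiv.toRingHom e.surjective e.toAddEquiv fun x y => map_mul e x y).symm

end Groth.Agent.H1Inf
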