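import Groth.Agent.H1AssDim.LocalModule
import Groth.Agent.CplFib6.Codepth
import Groth.Agent.KFlatLib.Ring.LocalFibre
import Groth.Agent.FlatLoc6.FiberRing

/-!
# Serre's conditions of fibres, read on the primes below
-/

set_option autoImplicit false
set_option linter.style.haveILetI false
set_option linter.unusedSectionVars false

universe u

open TensorProduct IsLocalRing

namespace Groth.Agent.H1Inf

section Congr

variable {S : Type u} [CommRing S] {M N : Type u} [AddCommGroup M] [Module S M] [AddCommGroup N] [Module S N]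

/-- The local inequality of `(S_k)`. -/
def SkLE (k : ℕ) (S : Type u) [CommRing S] (M : Type u) [AddCommGroup M] [Module S M] (p : Ideal S) [p.IsPrime] : Prop :=
  min (k : WithBot ℕ∞) (Module.supportDim (Localization.AtPrime p) (LocalizedModule p.primeCompl M)) ≤
    ((LocCoh.depth (Localization.AtPrime p) (LocalizedModule p.primeCompl M) : ℕ∞) : WithBot ℕ∞)

theorem hasSk_iff_forall_skLE (k : ℕ) : LocCoh.HasSk k S M ↔ ∀ (p : Ideal S) [p.IsPrime], SkLE k S M p := Iff.rfl

theorem skLE_of_equiv (k : ℕ) (p : Ideal S) [p.IsPrime]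
    (e : LocalizedModule p.primeCompl M ≃ₗ[Localization.AtPrime p] LocalizedModule p.primeCompl N)
    (h : SkLE k S M p) : SkLE k S N p := by
  rw [SkLE] at h ⊢
  rwa [← Module.supportDim_eq_of_equiv e, ← FlatLoc6.depth_congr' e]

/-- The localization of an isomorphism. -/
noncomputable def locEquiv (p : Ideal S) [p.IsPrime] (e : M ≃ₗ[S] N) :
    LocalizedModule p.primeCompl M ≃ₗ[Localization.AtPrime p] LocalizedModule p.primeCompl N :=
  IsLocalizedModule.mapEquiv p.primeCompl (LocalizedModule.mkLinearMap _ _) (LocalizedModule.mkLinearMap _ _)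
    (Localization.AtPrime p) e

theorem skLE_congr (k : ℕ) (p : Ideal S) [p.IsPrime] (e : M ≃ₗ[S] N) : SkLE k S M p ↔ SkLE k S N p :=
  ⟨skLE_of_equiv k p (locEquiv p e), skLE_of_equiv k p (locEquiv p e).symm⟩

theorem hasSk_congr (k : ℕ) (e : M ≃ₗ[S] N) : LocCoh.HasSk k S M ↔ LocCoh.HasSk k S N :=
  forall₂_congr fun p _ => skLE_congr k p e

theorem skLE_of_subsingleton (k : ℕ) (p : Ideal S) [p.IsPrime] [Subsingleton (LocalizedModule p.primeCompl M)] :
    SkLE k S M p := by
  rw [SkLE, (Module.supportDim_eq_bot_iff_subsingleton _ _).2 inferInstance]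
  exact (min_le_right _ _).trans bot_le

end Congr

section Comap

variable {S R : Type u} [CommRing S] [CommRing R] [Algebra S R] {M : Type u} [AddCommGroup M] [Module R M]
  [Module S M] [IsScalarTower S R M] (hπ : Function.Surjective (algebraMap S R))

include hπ in
theorem skLE_comap (k : ℕ) (p : Ideal R) [p.IsPrime] : SkLE k S M (p.comap (algebraMap S R)) ↔ SkLE k R M p := by
  rw [SkLE, SkLE, CplFib6.supportDim_localized_comap hπ p, LC.depth_localized_comap (M := M) hπ p]

theorem skLE_of_not_le (k : ℕ) (P : Ideal S) [P.IsPrime] (h : ¬ RingHom.ker (algebraMap S R) ≤ P) :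
    SkLE k S M P := by
  obtain ⟨a, ha, haP⟩ := SetLike.not_le_iff_exists.1 h
  haveI : Subsingleton (LocalizedModule P.primeCompl M) := LocalizedModule.subsingleton_iff.2 fun m =>
    ⟨a, haP, by rw [← algebraMap_smul R a m, (RingHom.mem_ker.1 ha : algebraMap S R a = 0), zero_smul]⟩
  exact skLE_of_subsingleton k P

include hπ in
/-- `(S_k)` does not depend on the ring through which a module is read. -/
theorem hasSk_comap (k : ℕ) : LocCoh.HasSk k S M ↔ LocCoh.HasSk k R M := by
  refine ⟨fun h p _ => (skLE_comap hπ k p).1 (h _), fun h P _ => ?_⟩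
  by_cases hP : RingHom.ker (algebraMap S R) ≤ P
  · haveI : (P.map (algebraMap S R)).IsPrime := Ideal.map_isPrime_of_surjective hπ hP
    have h1 := (skLE_comap (M := M) hπ k (P.map (algebraMap S R))).2 (h _)
    have h2 : (P.map (algebraMap S R)).comap (algebraMap S R) = P := by
      rw [Ideal.comap_map_of_surjective _ hπ, ← RingHom.ker_eq_comap_bot, sup_eq_left.2 hP]
    simp only [h2] at h1
    exact h1
  · exact skLE_of_not_le k P hP

end Comap

section Fibre

variable {A B : Type u} [CommRing A] [CommRing B] [IsNoetherianRing A] [IsNoetherianRing B] [Algebra A B]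

/-- The reduction of a module modulo the contraction of a prime. -/
abbrev Red (A : Type u) {B : Type u} [CommRing A] [CommRing B] [Algebra A B] (n : Ideal B) (E : Type u)
    [AddCommGroup E] [Module B E] : Type u :=
  E ⧸ (((n.comap (algebraMap A B)).map (algebraMap A B)) • ⊤ : Submodule B E)

theorem exists_red_localized (n : Ideal B) [n.IsPrime] (E : Type u) [AddCommGroup E] [Module B E] (s : Ideal B)
    [s.IsPrime] (hs : s.comap (algebraMap A B) = n.comap (algebraMap A B)) :
    Nonempty (LocalizedModule s.primeCompl (Red A n E) ≃ₗ[Localization.AtPrime s] EGA4.FibLocMod A B s E) := by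
  obtain ⟨e⟩ := KFlatLib.exists_localizedQuotSMul s.primeCompl ((n.comap (algebraMap A B)).map (algebraMap A B)) E
  exact ⟨e.trans (Submodule.quotEquivOfEq _ _ (by
    rw [Ideal.map_map, ← IsScalarTower.algebraMap_eq, hs]))⟩

/-- `(S_k)` of the fibre at a point, on the primes below it. -/
theorem hasSk_fib_iff (k : ℕ) (n : Ideal B) [n.IsPrime] (E : Type u) [AddCommGroup E] [Module B E] :
    LocCoh.HasSk k (EGA4.FibLocRing A B n) (EGA4.FibLocMod A B n E) ↔
      ∀ s : PrimeSpectrum B, s.asIdeal ≤ n → SkLE k B (Red A n E) s.asIdeal := by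
  rw [← hasSk_comap (S := Localization.AtPrime n) (R := EGA4.FibLocRing A B n) (M := EGA4.FibLocMod A B n E)
    Ideal.Quotient.mk_surjective k]
  obtain ⟨e⟩ := exists_red_localized (A := A) n E n rfl
  let g : Red A n E →ₗ[B] EGA4.FibLocMod A B n E :=
    (e.restrictScalars B).toLinearMap.comp (LocalizedModule.mkLinearMap n.primeCompl _)
  haveI : IsLocalizedModule n.primeCompl g := IsLocalizedModule.of_linearEquiv _ _ _
  exact H1AssDim.hasSk_localized_iff (q := ⟨n, ‹_›⟩) (L := Localization.AtPrime n) g k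

/-- `(S_k)` of the local ring of the fibre bounds the fibre depths below. -/
theorem fib_le_of_hasSk (k : ℕ) (n : Ideal B) [n.IsPrime]
    (h : LocCoh.HasSk k (EGA4.FibLocRing A B n) (EGA4.FibLocRing A B n)) (s : Ideal B) [s.IsPrime] (hs : s ≤ n)
    (hp : s.comap (algebraMap A B) = n.comap (algebraMap A B)) :
    min (k : WithBot ℕ∞) (FlatLoc6.fibDim A s B) ≤ ((FlatLoc6.fibDepth A s B : ℕ∞) : WithBot ℕ∞) := by
  let N := Localization.AtPrime n
  let I : Ideal N := (n.comap (algebraMap A B)).map (algebraMap A N)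
  have hJ : (I • ⊤ : Submodule N (LocalizedModule n.primeCompl B)).map
      (LC.selfLoc n.primeCompl).toLinearMap = I := by
    rw [Submodule.map_smul'', Submodule.map_top, LinearMap.range_eq_top.mpr (LC.selfLoc n.primeCompl).surjective,
      Ideal.smul_eq_mul, Ideal.mul_top]
  let e : EGA4.FibLocMod A B n B ≃ₗ[N] EGA4.FibLocRing A B n :=
    Submodule.Quotient.equiv _ I (LC.selfLoc n.primeCompl) hJ
  rw [← hasSk_comap (S := N) (R := EGA4.FibLocRing A B n) (M := EGA4.FibLocRing A B n) Ideal.Quotient.mk_surjective k,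
    ← hasSk_congr k e, hasSk_comap (S := N) (R := EGA4.FibLocRing A B n) (M := EGA4.FibLocMod A B n B)
      Ideal.Quotient.mk_surjective k, hasSk_fib_iff] at h
  have h1 := h ⟨s, ‹_›⟩ hs
  obtain ⟨e'⟩ := exists_red_localized (A := A) n B s hp
  rw [SkLE, Module.supportDim_eq_of_equiv e', FlatLoc6.depth_congr' e'] at h1
  exact h1

end Fibre

end Groth.Agent.H1Inf
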