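import Groth.Agent.H1Inf.Ring
import Groth.Agent.LC.ExtDim
import Groth.Agent.LC.CdDim
import Mathlib.RingTheory.Spectrum.Prime.FreeLocus

/-!
# Flatness of the cokernel over an Artinian test ring
-/

set_option autoImplicit false
set_option linter.style.haveILetI false
set_option linter.unusedSectionVars false
set_option maxHeartbeats 800000

universe u

open TensorProduct IsLocalRing

namespace Groth.Agent.H1Inf

variable {B : Type u} [CommRing B] [IsNoetherianRing B] (J : Ideal B)

/-- A module which is free off `V(J)` and of positive depth has support of dimension at least the depth of the ring. -/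
theorem depth_le_supportDim_of_free_off (D : Type u) [AddCommGroup D] [Module B D] [Module.Finite B D] (r : Ideal B)
    [r.IsPrime] (hfree : ∀ Q : PrimeSpectrum B, ¬ J ≤ Q.asIdeal → Q.asIdeal ≤ r →
      Module.Free (Localization.AtPrime Q.asIdeal) (LocalizedModule Q.asIdeal.primeCompl D))
    (hD : 1 ≤ LocCoh.idealDepth (J.map (algebraMap B (Localization.AtPrime r))) (LocalizedModule r.primeCompl D))
    [Nontrivial (LocalizedModule r.primeCompl D)] :
    ((LocCoh.depth (Localization.AtPrime r) (Localization.AtPrime r) : ℕ∞) : WithBot ℕ∞) ≤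
      Module.supportDim (Localization.AtPrime r) (LocalizedModule r.primeCompl D) := by
  let L := Localization.AtPrime r
  haveI : IsNoetherianRing L := IsLocalization.isNoetherianRing r.primeCompl _ inferInstance
  haveI : Module.Finite L (LocalizedModule r.primeCompl D) :=
    Module.Finite.of_isLocalizedModule r.primeCompl (LocalizedModule.mkLinearMap _ _)
  let g := LocalizedModule.mkLinearMap r.primeCompl D
  -- a point of the support off `V(J)`
  obtain ⟨P₀, hP₀, hJ₀⟩ : ∃ P₀ ∈ Module.support L (LocalizedModule r.primeCompl D),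
      ¬ J.map (algebraMap B L) ≤ P₀.asIdeal := by
    by_contra hcon
    push Not at hcon
    exact not_subsingleton (LocalizedModule r.primeCompl D)
      (KFlatLib.subsingleton_of_support_le _ _ hcon hD)
  let Q₀ : PrimeSpectrum B := PrimeSpectrum.comap (algebraMap B L) P₀
  have hQ₀r : Q₀.asIdeal ≤ r := H1AssDim.comap_le ⟨r, ‹_›⟩ L P₀
  have hQ₀D : Q₀ ∈ Module.support B D := (H1AssDim.mem_support_localized_iff (q := ⟨r, ‹_›⟩) g P₀).1 hP₀
  haveI := hfree Q₀ (fun h => hJ₀ (Ideal.map_le_iff_le_comap.2 h)) hQ₀r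
  haveI : Nontrivial (LocalizedModule Q₀.asIdeal.primeCompl D) := Module.mem_support_iff.1 hQ₀D
  -- a minimal prime below it
  haveI := P₀.2
  obtain ⟨P, hP, hPle⟩ := Ideal.exists_minimalPrimes_le (bot_le : (⊥ : Ideal L) ≤ P₀.asIdeal)
  haveI := hP.1.1
  have hPass : P ∈ associatedPrimes L L := by
    refine Module.associatedPrimes.minimalPrimes_annihilator_subset_associatedPrimes L L ?_
    rwa [Module.annihilator_eq_bot.2 inferInstance]
  let Q : PrimeSpectrum B := PrimeSpectrum.comap (algebraMap B L) ⟨P, hP.1.1⟩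
  have hQle : Q.asIdeal ≤ Q₀.asIdeal := Ideal.comap_mono hPle
  have hQD : Q ∈ Module.support B D := by
    rw [Module.mem_support_iff_of_finite]
    intro a ha
    let L0 := Localization.AtPrime Q₀.asIdeal
    let b := Module.Free.chooseBasis L0 (LocalizedModule Q₀.asIdeal.primeCompl D)
    obtain ⟨i⟩ := b.index_nonempty
    have h0 : algebraMap B L0 a = 0 := by
      have h1 : algebraMap B L0 a • b i = 0 := by
        rw [algebraMap_smul]
        induction b i using LocalizedModule.induction_on with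
        | h x s => rw [LocalizedModule.smul'_mk, Module.mem_annihilator.1 ha x, LocalizedModule.zero_mk]
      have h2 := congrArg (fun z => b.repr z i) h1
      simpa [-algebraMap_smul] using h2
    obtain ⟨⟨t, ht⟩, hta⟩ := (IsLocalization.map_eq_zero_iff Q₀.asIdeal.primeCompl L0 a).1 h0
    exact ((Q.2.mem_or_mem (show t * a ∈ Q.asIdeal by rw [show t * a = 0 from hta]; exact zero_mem _)).resolve_left
      fun h => ht (hQle h))
  have hPsupp : (⟨P, hP.1.1⟩ : PrimeSpectrum L) ∈ Module.support L (LocalizedModule r.primeCompl D) :=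
    (H1AssDim.mem_support_localized_iff (q := ⟨r, ‹_›⟩) g _).2 hQD
  exact (WithBot.coe_le_coe.2 (LC.depth_le_coheight_of_ass L (p := ⟨P, hP.1.1⟩) hPass)).trans
    (LC.coheight_le_supportDim hPsupp)

section Artinian

variable {A A' B' : Type u} [CommRing A] [IsNoetherianRing A] [IsLocalRing A] [Algebra A B]
  [CommRing A'] [IsArtinianRing A'] [IsLocalRing A'] [Algebra A A']
  [CommRing B'] [IsNoetherianRing B'] [Algebra B B'] [Algebra A' B'] [Algebra A B'] [IsScalarTower A B B']
  [IsScalarTower A A' B'] [Algebra.IsPushout A B A' B'] [Module.Flat A B]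
  (hπ : Function.Surjective (algebraMap A A')) (n : Ideal B) [n.IsPrime]
  (hn : (maximalIdeal A).map (algebraMap A B) ≤ n)
  (hS2 : LocCoh.HasSk 2 (EGA4.FibLocRing A B n) (EGA4.FibLocRing A B n))
  (hcodim : ∀ q : PrimeSpectrum B, J ≤ q.asIdeal → (2 : WithBot ℕ∞) ≤ ringKrullDim (EGA4.FibLocRing A B q.asIdeal))
  (q' : Ideal B') [q'.IsPrime] (hq' : q'.comap (algebraMap B B') = n)

include hπ hn hq' in
theorem contractions (r : Ideal B') [r.IsPrime] (hr : r ≤ q') :
    r.comap (algebraMap A' B') = maximalIdeal A' ∧ r.comap (algebraMap B B') ≤ n ∧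
      (r.comap (algebraMap B B')).comap (algebraMap A B) = n.comap (algebraMap A B) := by
  have h1 : r.comap (algebraMap A' B') = maximalIdeal A' := eq_maximalIdeal inferInstance
  haveI := Ideal.comap_isMaximal_of_surjective (algebraMap A A') hπ (K := maximalIdeal A')
  have hcomm : ∀ s : Ideal B', (s.comap (algebraMap B B')).comap (algebraMap A B) =
      (s.comap (algebraMap A' B')).comap (algebraMap A A') := fun s => by
    rw [Ideal.comap_comap, Ideal.comap_comap, ← IsScalarTower.algebraMap_eq, ← IsScalarTower.algebraMap_eq]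
  refine ⟨h1, hq' ▸ Ideal.comap_mono hr, ?_⟩
  rw [hcomm, h1, eq_maximalIdeal ‹((maximalIdeal A').comap (algebraMap A A')).IsMaximal›]
  exact ((maximalIdeal.isMaximal A).eq_of_le (Ideal.IsPrime.comap _).ne_top (Ideal.map_le_iff_le_comap.1 hn))

include hπ hn hS2 hcodim hq' in
theorem two_le_fibDepth_test (r : Ideal B') [r.IsPrime] (hr : r ≤ q') (hJ : J.map (algebraMap B B') ≤ r) :
    ((2 : ℕ) : ℕ∞) ≤ FlatLoc6.fibDepth A' r B' := by
  obtain ⟨-, h2, h3⟩ := contractions hπ n hn q' hq' r hr
  rw [fibDepth_baseChange_self (A := A) (B := B) hπ r]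
  exact two_le_fibDepth_of_hasSk n hS2 J hcodim _ h2 h3 (Ideal.map_le_iff_le_comap.1 hJ)

include hπ hn hS2 hcodim hq' in
theorem two_le_idealDepth_test (r : Ideal B') [r.IsPrime] (hr : r ≤ q') :
    ((2 : ℕ) : ℕ∞) ≤ LocCoh.idealDepth ((J.map (algebraMap B B')).map (algebraMap B' (Localization.AtPrime r)))
      (Localization.AtPrime r) := by
  haveI : Algebra.IsPushout A A' B B' := Algebra.IsPushout.symm inferInstance
  haveI : Module.Flat A' B' :=
    haveI : Module.Flat A' (A' ⊗[A] B) := inferInstance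
    Module.Flat.of_linearEquiv (Algebra.IsPushout.out (R := A) (S := A') (R' := B) (S' := B')).equiv.symm
  let L := Localization.AtPrime r
  haveI : IsNoetherianRing L := IsLocalization.isNoetherianRing r.primeCompl _ inferInstance
  haveI : Module.Finite L (LocalizedModule r.primeCompl B') :=
    Module.Finite.of_isLocalizedModule r.primeCompl (LocalizedModule.mkLinearMap _ _)
  rw [← LC.idealDepth_congr _ (LC.selfLoc r.primeCompl), LC.idealDepth_eq_iInf_depth]
  refine le_iInf₂ fun P hP => ?_
  rw [Alg6.depth_locLoc, FlatLoc6.depth_self_atPrime]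
  have hPr : P.asIdeal.comap (algebraMap B' L) ≤ r := H1AssDim.comap_le ⟨r, ‹_›⟩ L P
  refine (two_le_fibDepth_test J hπ n hn hS2 hcodim q' hq' _ (hPr.trans hr) (Ideal.map_le_iff_le_comap.1 hP)).trans ?_
  rw [(FlatLoc6.formulas_self (A := A') _ (P.asIdeal.comap (algebraMap B' L)) rfl).1]
  exact le_add_self

variable {F E0 E1 G : Type u} [AddCommGroup F] [Module B F] [Module.Finite B F]
  [AddCommGroup E0] [Module B E0] [Module.Finite B E0] [Module.Projective B E0]
  [AddCommGroup E1] [Module B E1] [Module.Finite B E1] [Module.Projective B E1]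
  [AddCommGroup G] [Module B G] [Module.Finite B G]
  {f : F →ₗ[B] E0} {u : E0 →ₗ[B] E1} {v : E1 →ₗ[B] G}
  (hf : Function.Injective f) (hfu : Function.Exact f u) (huv : Function.Exact u v) (hv : Function.Surjective v)
  (hGU : ∀ q : PrimeSpectrum B, ¬ J ≤ q.asIdeal →
    Module.Free (Localization.AtPrime q.asIdeal) (LocalizedModule q.asIdeal.primeCompl G))
  (hD : LocCoh.HasSk 2 (EGA4.FibLocRing A' B' q')
    (EGA4.FibLocMod A' B' q' (Module.Dual B' (Module.Dual B' (B' ⊗[B] F)))))

include hπ hn hS2 hcodim hq' hf hfu huv hv hGU hD in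
/-- The cokernel is flat over the test ring. -/
theorem flatAt_coker_test : FlatCA.FlatAt A' q' (B' ⊗[B] G) := by
  classical
  haveI : Algebra.IsPushout A A' B B' := Algebra.IsPushout.symm inferInstance
  haveI : Module.Flat A' B' :=
    haveI : Module.Flat A' (A' ⊗[A] B) := inferInstance
    Module.Flat.of_linearEquiv (Algebra.IsPushout.out (R := A) (S := A') (R' := B) (S' := B')).equiv.symm
  let J' : Ideal B' := J.map (algebraMap B B')
  let u' : B' ⊗[B] E0 →ₗ[B'] B' ⊗[B] E1 := u.baseChange B'
  let K := LinearMap.ker u'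
  haveI : Module.Finite B' K := Module.Finite.iff_fg.2 (IsNoetherian.noetherian _)
  have hf' : Function.Injective K.subtype := Subtype.val_injective
  have hfu' : Function.Exact K.subtype u' := LinearMap.exact_subtype_ker_map u'
  have huv' : Function.Exact u' (v.baseChange B') := lTensor_exact B' huv hv
  have hv' : Function.Surjective (v.baseChange B') := LinearMap.lTensor_surjective B' hv
  have hJ : ∀ Q : PrimeSpectrum B', ¬ J' ≤ Q.asIdeal → ¬ J ≤ (PrimeSpectrum.comap (algebraMap B B') Q).asIdeal :=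
    fun Q hQ h => hQ (Ideal.map_le_iff_le_comap.2 h)
  have hFU : ∀ Q : PrimeSpectrum B', ¬ J' ≤ Q.asIdeal →
      Module.Free (Localization.AtPrime Q.asIdeal) (LocalizedModule Q.asIdeal.primeCompl (B' ⊗[B] F)) := fun Q hQ =>
    Module.comap_freeLocus_le (R := B) (M := F) (show PrimeSpectrum.comap (algebraMap B B') Q ∈ Module.freeLocus B F
      from H1FourTerm.free_of_free hf hfu huv hv _ (hGU _ (hJ Q hQ)))
  haveI : Module.Finite B' (Module.Dual B' (B' ⊗[B] F)) := finite_dual _
  let D := Module.Dual B' (Module.Dual B' (B' ⊗[B] F))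
  haveI : Module.Finite B' D := finite_dual _
  let g₀ := toKer B' hfu
  have hu0 : ∀ x, u' (f.baseChange B' x) = 0 := fun x => LinearMap.mem_ker.1 (g₀ x).2
  let φ : D →ₗ[B'] K := ddMap (f.baseChange B') u' hu0
  let η := Module.Dual.eval B' (B' ⊗[B] F)
  have hφη : ∀ x, φ (η x) = g₀ x := fun x => Subtype.ext (ddMap_eval _ _ hu0 x)
  have hη : ∀ Q : PrimeSpectrum B', ¬ J' ≤ Q.asIdeal →
      (∀ x, η x = 0 → ∃ t ∈ Q.asIdeal.primeCompl, t • x = 0) ∧
      ∀ y, ∃ t ∈ Q.asIdeal.primeCompl, t • y ∈ LinearMap.range η := fun Q hQ => by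
    haveI := hFU Q hQ
    haveI : Module.Finite (Localization.AtPrime Q.asIdeal) (LocalizedModule Q.asIdeal.primeCompl (B' ⊗[B] F)) :=
      Module.Finite.of_isLocalizedModule Q.asIdeal.primeCompl (LocalizedModule.mkLinearMap _ _)
    exact KFlatLib.eval_of_isReflexive_localized (B' ⊗[B] F) Q.asIdeal.primeCompl
  have hg₀ : ∀ Q : PrimeSpectrum B', ¬ J' ≤ Q.asIdeal →
      (∀ x, g₀ x = 0 → ∃ t ∉ Q.asIdeal, t • x = 0) ∧ ∀ y, ∃ t ∉ Q.asIdeal, t • y ∈ LinearMap.range g₀ := fun Q hQ =>
    toKer_off hf hfu huv hv B' Q.asIdeal (hGU _ (hJ Q hQ))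
  have hφker : ∀ Q : PrimeSpectrum B', ¬ J' ≤ Q.asIdeal → ∀ d, φ d = 0 → ∃ t ∉ Q.asIdeal, t • d = 0 := by
    intro Q hQ d hd
    obtain ⟨t, ht, y, hy⟩ := (hη Q hQ).2 d
    obtain ⟨t', ht', hy'⟩ := (hg₀ Q hQ).1 y (by rw [← hφη, hy, map_smul, hd, smul_zero])
    exact ⟨t' * t, fun h => (Q.2.mem_or_mem h).elim ht' ht, by rw [mul_smul, ← hy, ← map_smul, hy', map_zero]⟩
  have hφcoker : ∀ Q : PrimeSpectrum B', ¬ J' ≤ Q.asIdeal → ∀ z, ∃ t ∉ Q.asIdeal, t • z ∈ LinearMap.range φ := by
    intro Q hQ z
    obtain ⟨t, ht, y, hy⟩ := (hg₀ Q hQ).2 z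
    exact ⟨t, ht, η y, (hφη y).trans hy⟩
  haveI : Module.Flat A' (B' ⊗[B] E0) := Module.Flat.trans A' B' _
  haveI : Module.Flat A' (B' ⊗[B] E1) := Module.Flat.trans A' B' _
  have hproj : ∀ (E : Type u) [AddCommGroup E] [Module B' E] [Module.Finite B' E] [Module.Projective B' E]
      (r : PrimeSpectrum B'), J' ≤ r.asIdeal → r.asIdeal ≤ q' →
      2 ≤ LocCoh.idealDepth (r.asIdeal.map (algebraMap B' (EGA4.FibLocRing A' B' r.asIdeal)))
        (EGA4.FibLocMod A' B' r.asIdeal E) := by
    intro E _ _ _ _ r hJr hrq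
    haveI : Module.Projective (Localization.AtPrime r.asIdeal) (LocalizedModule r.asIdeal.primeCompl E) :=
      Module.projective_of_isLocalizedModule r.asIdeal.primeCompl (LocalizedModule.mkLinearMap _ E)
    rw [idealDepth_eq_fibDepth]
    exact_mod_cast le_fibDepth_projective 2 r.asIdeal E (two_le_fibDepth_test J hπ n hn hS2 hcodim q' hq' _ hrq hJr)
  refine (KFlatLib.fourTerm_atPrime (A := A') (F := ↥K) J' hf' hfu' huv' hv' q' (hproj _)
    (fun r hr hrq => le_trans one_le_two (hproj _ r hr hrq))).2 (fun Q hQ => ?_) (fun r hJr hrq => ?_)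
  · haveI : Module.Free (Localization.AtPrime Q.asIdeal) (LocalizedModule Q.asIdeal.primeCompl (B' ⊗[B] G)) :=
      Module.comap_freeLocus_le (R := B) (M := G)
        (show PrimeSpectrum.comap (algebraMap B B') Q ∈ Module.freeLocus B G from hGU _ (hJ Q hQ))
    haveI : Module.Flat A' (Localization.AtPrime Q.asIdeal) := Module.Flat.trans A' B' (Localization.AtPrime Q.asIdeal)
    exact Module.Flat.trans A' (Localization.AtPrime Q.asIdeal) _
  -- the fibre depth of the kernel
  let L := Localization.AtPrime r.asIdeal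
  let S := r.asIdeal.primeCompl
  haveI : IsNoetherianRing L := IsLocalization.isNoetherianRing S _ inferInstance
  haveI : Module.Finite L (LocalizedModule S D) :=
    Module.Finite.of_isLocalizedModule S (LocalizedModule.mkLinearMap _ _)
  haveI : Module.Finite L (LocalizedModule S (B' ⊗[B] E0)) :=
    Module.Finite.of_isLocalizedModule S (LocalizedModule.mkLinearMap _ _)
  haveI : Module.Finite L (LocalizedModule S K) :=
    Module.Finite.of_isLocalizedModule S (LocalizedModule.mkLinearMap _ _)
  haveI : Module.Projective L (LocalizedModule S (B' ⊗[B] E0)) :=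
    Module.projective_of_isLocalizedModule S (LocalizedModule.mkLinearMap S _)
  have hL := two_le_idealDepth_test J hπ n hn hS2 hcodim q' hq' r.asIdeal hrq
  have hD2 := two_le_idealDepth_dual_localized J' r.asIdeal hL (Module.Dual B' (B' ⊗[B] F))
  have hL1 : ((1 : ℕ) : ℕ∞) ≤ LocCoh.idealDepth (J'.map (algebraMap B' L)) L := le_trans (Nat.cast_le.2 one_le_two) hL
  have hE1 := H1FourTerm.le_idealDepth_projective _ 1 hL1 (LocalizedModule S (B' ⊗[B] E0))
  rw [Nat.cast_one] at hE1
  letI : AddCommGroup (↥K) := Submodule.addCommGroup (LinearMap.ker u')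
  have hK1 : 1 ≤ LocCoh.idealDepth (J'.map (algebraMap B' L)) (LocalizedModule S K) :=
    KFlatLib.le_idealDepth_of_injective _ (LocalizedModule.map S K.subtype)
      (LocalizedModule.map_injective _ _ hf') hE1
  have hbij := bijective_localized_of_off J' φ r.asIdeal (fun Q h _ => hφker Q h) (fun Q h _ => hφcoker Q h) hD2 hK1
  let eφ := LinearEquiv.ofBijective _ hbij
  let I : Ideal L := (r.asIdeal.comap (algebraMap A' B')).map (algebraMap A' L)
  let eI : EGA4.FibLocMod A' B' r.asIdeal D ≃ₗ[L] EGA4.FibLocMod A' B' r.asIdeal K :=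
    Submodule.Quotient.equiv _ _ eφ (by
      rw [Submodule.map_smul'', Submodule.map_top, LinearMap.range_eq_top.mpr eφ.surjective])
  rw [idealDepth_eq_fibDepth, FlatLoc6.fibDepth, ← FlatLoc6.depth_congr' eI]
  by_cases hne : Subsingleton (EGA4.FibLocMod A' B' r.asIdeal D)
  · rw [LocCoh.depth, LocCoh.idealDepth, if_pos (Subsingleton.elim _ _)]
    exact le_top
  obtain ⟨hrA, -, -⟩ := contractions hπ n hn q' hq' r.asIdeal hrq
  have hq'A : q'.comap (algebraMap A' B') = r.asIdeal.comap (algebraMap A' B') := by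
    rw [hrA, (contractions hπ n hn q' hq' q' le_rfl).1]
  have h := (hasSk_fib_iff 2 q' D).1 hD r hrq
  obtain ⟨e⟩ := exists_red_localized (A := A') q' D r.asIdeal hq'A.symm
  rw [SkLE, Module.supportDim_eq_of_equiv e, FlatLoc6.depth_congr' e, min_eq_left, ← WithBot.coe_natCast,
    WithBot.coe_le_coe] at h
  · exact_mod_cast h
  -- the support has dimension at least two
  haveI : Nontrivial (LocalizedModule S D) := by
    rw [← not_subsingleton_iff_nontrivial]
    exact fun _ => hne inferInstance
  have hsupp : Module.support L (EGA4.FibLocMod A' B' r.asIdeal D) = Module.support L (LocalizedModule S D) := by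
    rw [Module.support_quotient, Set.inter_eq_left]
    intro P _
    refine (PrimeSpectrum.mem_zeroLocus _ _).2 (Ideal.map_le_iff_le_comap.2 ?_)
    haveI : (P.asIdeal.comap (algebraMap A' L)).IsPrime := Ideal.IsPrime.comap _
    rw [hrA, eq_maximalIdeal (IsArtinianRing.isMaximal_of_isPrime (P.asIdeal.comap (algebraMap A' L)))]
  have hdim : ((LocCoh.depth L L : ℕ∞) : WithBot ℕ∞) ≤ Module.supportDim L (EGA4.FibLocMod A' B' r.asIdeal D) := by
    refine le_of_le_of_eq (depth_le_supportDim_of_free_off J' D r.asIdeal (fun Q hQ _ => ?_)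
      (le_trans one_le_two hD2)) (by rw [Module.supportDim, Module.supportDim, hsupp])
    haveI := hFU Q hQ
    have hb : Function.Bijective (LocalizedModule.map Q.asIdeal.primeCompl η) := by
      refine ⟨?_, fun z => ?_⟩
      · rw [injective_iff_map_eq_zero]
        intro z hz
        induction z using LocalizedModule.induction_on with
        | h x s =>
          rw [LocalizedModule.map_mk] at hz
          obtain ⟨t₀, ht₀⟩ := LocalizedModule.mk_eq.1 (hz.trans (LocalizedModule.zero_mk s).symm)
          obtain ⟨t, ht, htx⟩ := (hη Q hQ).1 (((t₀ : B') * (s : B')) • x) (by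
            rw [map_smul, mul_smul]
            simpa [Submonoid.smul_def] using ht₀)
          rw [← LocalizedModule.zero_mk s, LocalizedModule.mk_eq]
          refine ⟨⟨t * (t₀ : B'), mul_mem ht t₀.2⟩, ?_⟩
          simp only [smul_zero, Submonoid.smul_def]
          rw [mul_smul, ← htx, mul_smul]
      · induction z using LocalizedModule.induction_on with
        | h y s =>
          obtain ⟨t, ht, x, hx⟩ := (hη Q hQ).2 y
          refine ⟨LocalizedModule.mk x (⟨t, ht⟩ * s), ?_⟩
          rw [LocalizedModule.map_mk, hx]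
          exact LocalizedModule.mk_cancel_common_left ⟨t, ht⟩ s y
    exact Module.Free.of_equiv (LinearEquiv.ofBijective _ hb)
  refine le_trans ?_ hdim
  rw [← WithBot.coe_natCast, WithBot.coe_le_coe]
  refine hL.trans (LC.idealDepth_le_of_le _ _ (le_maximalIdeal fun hJtop => ?_))
  refine (maximalIdeal.isMaximal L).ne_top (top_le_iff.1 (hJtop.ge.trans (Ideal.map_le_iff_le_comap.2 fun x hx => ?_)))
  rw [← Localization.AtPrime.map_eq_maximalIdeal]
  exact Ideal.mem_map_of_mem _ (hJr hx)

end Artinian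

end Groth.Agent.H1Inf
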